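import Cfsg.Agent.H940.Struct
import Cfsg.Agent.OrdDiv.Core

/-!
# The numerical engine for `Apart` (helper940)

`LD` : local data `r, C, N` at a prime `r ∥ |G|`: `Loc G ld` says that `|C_G(R)| ∣ C` and `|N_G(R)| ∣ N` for the subgroups `R` of
order `r`. `bad` : a Boolean test; `bad m = true` excludes the order `m` for a proper subgroup.
`apart_of_check` (all indices), `apart_of_check2` (enumeration at a main prime).
-/

set_option autoImplicit false

namespace Cfsg.Agent.H940.Eng

open Subgroup Cfsg.Agent.OrdDiv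

universe u

/-! ### divisors -/

/-- all products `∏ p ^ k`, `k ≤ e` -/
def divsT : List (ℕ × ℕ) → List ℕ
  | [] => [1]
  | x :: l => (List.range (x.2 + 1)).flatMap fun k => (divsT l).map fun d => x.1 ^ k * d

theorem mem_divsT {l : List (ℕ × ℕ)} (hp : ∀ x ∈ l, (x.1).Prime) : ∀ {d : ℕ}, d ∣ prodl l → d ∈ divsT l := by
  induction l with
  | nil =>
    intro d hd
    have h1 : d = 1 := Nat.dvd_one.1 hd
    rw [h1]
    exact List.mem_singleton.2 rfl
  | cons x l ih =>
    intro d hd
    have h1 : prodl (x :: l) = x.1 ^ x.2 * prodl l := by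
      unfold prodl
      rw [List.map_cons, List.prod_cons]
    rw [h1] at hd
    obtain ⟨a, b, ha, hb, rfl⟩ := (Nat.dvd_mul).1 hd
    obtain ⟨k, hk, rfl⟩ := (Nat.dvd_prime_pow (hp x List.mem_cons_self)).1 ha
    unfold divsT
    rw [List.mem_flatMap]
    refine ⟨k, List.mem_range.2 (by omega), ?_⟩
    rw [List.mem_map]
    exact ⟨b, ih (fun y hy => hp y (List.mem_cons_of_mem _ hy)) hb, rfl⟩

theorem prodl_pos {l : List (ℕ × ℕ)} (hp : ∀ x ∈ l, (x.1).Prime) : 0 < prodl l := by
  unfold prodl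
  apply Nat.pos_of_ne_zero
  intro h
  rw [List.prod_eq_zero_iff, List.mem_map] at h
  obtain ⟨x, hx, h1⟩ := h
  exact (pow_pos (hp x hx).pos x.2).ne' h1

/-- multiplicity of `p` in `n`, with fuel -/
def val (p : ℕ) : ℕ → ℕ → ℕ
  | 0, _ => 0
  | f + 1, n => if n % p == 0 then val p f (n / p) + 1 else 0

theorem val_eq {p : ℕ} (hp : p.Prime) : ∀ (f n : ℕ), n ≠ 0 → n.factorization p ≤ f → val p f n = n.factorization p := by
  intro f
  induction f with
  | zero =>
    intro n _ h
    unfold val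
    omega
  | succ f ih =>
    intro n hn h
    unfold val
    by_cases hd : p ∣ n
    · rw [if_pos (by rw [beq_iff_eq]; exact Nat.mod_eq_zero_of_dvd hd)]
      obtain ⟨k, rfl⟩ := hd
      have hk : k ≠ 0 := by rintro rfl; simp at hn
      have h1 : (p * k).factorization p = k.factorization p + 1 := by
        rw [Nat.factorization_mul hp.ne_zero hk, Finsupp.add_apply, hp.factorization_self]
        omega
      rw [Nat.mul_div_cancel_left _ hp.pos, ih k hk (by omega), h1]
    · rw [if_neg (by rw [beq_iff_eq]; exact fun h => hd (Nat.dvd_of_mod_eq_zero h)), Nat.factorization_eq_zero_of_not_dvd hd]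

/-! ### the data and the test -/

/-- local data: the prime, a multiple of `|C(R)|`, the factorization of a multiple of `|N(R)|` -/
structure LD where
  r : ℕ
  C : ℕ
  fN : List (ℕ × ℕ)

/-- the multiple of `|N(R)|` -/
def LD.N (ld : LD) : ℕ := prodl ld.fN

/-- the exponents `a` allowed for a normal `r'`-subgroup -/
def okexp (r C p a : ℕ) : Bool := (List.range (a + 1)).any fun j => C % p ^ j == 0 && p ^ (a - j) % r == 1 % r

/-- condition on the order `k` of the normal `r'`-subgroup -/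
def pc (l : List (ℕ × ℕ)) (r C k : ℕ) : Bool := l.all fun x => okexp r C x.1 (val x.1 x.2 k)

/-- condition on the simple factor of order `s` -/
def nuc (D : List ℕ) (r N s t : ℕ) : Bool :=
  s == r || D.any fun ν => ν % r == 0 && (N / t) % ν == 0 && s % ν == 0 && (s / ν) % r == 1 % r

def feasS (l : List (ℕ × ℕ)) (D : List ℕ) (r C N m s : ℕ) : Bool :=
  m % s == 0 && D.any fun t => (N / r) % t == 0 && (m / s) % t == 0 && (m / s / t) % r != 0 && pc l r C (m / s / t) &&
    nuc D r N s t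

def feas (l : List (ℕ × ℕ)) (ld : LD) (ords : List ℕ) (m : ℕ) : Bool :=
  ((divsT ld.fN).any fun y => y % ld.r == 0 && m % y == 0 && (m / y) % ld.r == 1 % ld.r) &&
    (ld.r :: ords).any fun s => s % ld.r == 0 && feasS l (divsT ld.fN) ld.r ld.C ld.N m s

/-- `bad m` excludes the order `m` of a proper subgroup -/
def bad (l : List (ℕ × ℕ)) (n : ℕ) (full : List ℕ) (bd : ℕ) (loc : List LD) (ords : List ℕ) (m : ℕ) : Bool :=
  (full.any fun p => (n / m) % p != 1 % p) || (Nat.ble (n / m) bd && (n / m).factorial % n != 0) ||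
    loc.any fun ld => m % ld.r == 0 && !(feas l ld ords m)

/-- the meaning of the local data -/
def Loc (G : Type u) [Group G] (ld : LD) : Prop :=
  ld.r.Prime ∧ (∀ x ∈ ld.fN, (x.1).Prime) ∧ ¬ ld.r ^ 2 ∣ Nat.card G ∧ ∀ R : Subgroup G, Nat.card R = ld.r →
    Nat.card (centralizer (R : Set G)) ∣ ld.C ∧ Nat.card (normalizer (R : Set G)) ∣ ld.N

/-- the orders of the nonabelian simple groups with order dividing `n` -/
def Ords (n : ℕ) (ords : List ℕ) : Prop :=
  ∀ (S : Type u) [Group S] [Finite S], IsSimpleGroup S → (¬ ∀ a b : S, a * b = b * a) → Nat.card S ∣ n →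
    Nat.card S ∈ ords

/-- the numbers of `struct` for a subgroup -/
theorem struct_sub {G : Type u} [Group G] [Finite G] {l : List (ℕ × ℕ)} {n : ℕ} (hv : valid l n = true)
    (hn : Nat.card G = n) {ords : List ℕ} (ho : Ords.{u} n ords) {ld : LD} (hl : Loc G ld) {H : Subgroup G}
    (hr : ld.r ∣ Nat.card H) : ∃ k s t : ℕ, Nat.card H = k * s * t ∧ t ∣ ld.N / ld.r ∧ s ∈ ld.r :: ords ∧
      ld.r ∣ s ∧ t ∈ divsT ld.fN ∧ ¬ ld.r ∣ k ∧ (∀ p : ℕ, p.Prime → okexp ld.r ld.C p (k.factorization p) = true) ∧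
      nuc (divsT ld.fN) ld.r ld.N s t = true ∧
      (∃ y ∈ divsT ld.fN, ld.r ∣ y ∧ y ∣ Nat.card H ∧ (Nat.card H / y) % ld.r = 1 % ld.r) := by
  obtain ⟨hp, hfN, h2, hloc⟩ := hl
  haveI := Fact.mk hp
  have hH2 : ¬ ld.r ^ 2 ∣ Nat.card H := fun h => h2 (h.trans (card_subgroup_dvd_card H))
  obtain ⟨x, hx⟩ := exists_prime_orderOf_dvd_card' ld.r hr
  set R : Subgroup H := zpowers x with hR
  have hRc : Nat.card R = ld.r := by rw [hR, Nat.card_zpowers, hx]
  set R' : Subgroup G := R.map H.subtype with hR'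
  have hR'c : Nat.card R' = ld.r := by rw [hR', card_map_of_injective H.subtype_injective, hRc]
  obtain ⟨hC, hN⟩ := hloc R' hR'c
  have hNH : Nat.card (normalizer (R : Set H)) ∣ ld.N := by
    refine dvd_trans ?_ hN
    have h3 : (normalizer (R : Set H)).map H.subtype ≤ normalizer (R' : Set G) := by
      rintro _ ⟨a, ha, rfl⟩
      rw [mem_normalizer_iff]
      intro z
      constructor
      · rintro ⟨w, hw, rfl⟩
        exact ⟨_, (mem_normalizer_iff.1 ha w).1 hw, rfl⟩
      · rintro ⟨w, hw, hw'⟩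
        have h4 : a⁻¹ * w * a ∈ R := by
          have h5 := (mem_normalizer_iff.1 ha (a⁻¹ * w * a)).2 (by
            have h6 : a * (a⁻¹ * w * a) * a⁻¹ = w := by group
            rw [h6]
            exact hw)
          exact h5
        refine ⟨_, h4, ?_⟩
        have h7 : (w : G) = (a : G) * z * (a : G)⁻¹ := hw'
        show ((a⁻¹ * w * a : H) : G) = z
        push_cast
        rw [h7]
        group
    rw [← card_map_of_injective H.subtype_injective]
    exact card_dvd_of_le h3
  have hCH : Nat.card (centralizer (R : Set H)) ∣ ld.C := by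
    refine dvd_trans ?_ hC
    have h3 : (centralizer (R : Set H)).map H.subtype ≤ centralizer (R' : Set G) := by
      rintro _ ⟨a, ha, rfl⟩
      rw [mem_centralizer_iff]
      rintro _ ⟨w, hw, rfl⟩
      exact congrArg Subtype.val ((mem_centralizer_iff.1 ha) w hw)
    rw [← card_map_of_injective H.subtype_injective]
    exact card_dvd_of_le h3
  obtain ⟨k, c, s, ν, t, e1, e2, e3, e4, e5, e6, e7, e8, e9, e10⟩ := struct hp hH2 R hRc
  have hNpos : 0 < ld.N := prodl_pos hfN
  have hHpos : 0 < Nat.card H := Nat.card_pos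
  have hkpos : k ≠ 0 := by
    rintro rfl
    rw [zero_mul, zero_mul] at e1
    omega
  have hHn : Nat.card H ∣ n := hn ▸ card_subgroup_dvd_card H
  have htpos : 0 < t := Nat.pos_of_ne_zero (by rintro rfl; rw [mul_zero] at e1; omega)
  have hspos : 0 < s := Nat.pos_of_ne_zero (by rintro rfl; rw [mul_zero, zero_mul] at e1; omega)
  have hcpos : 0 < c := Nat.pos_of_dvd_of_pos e4 (Nat.pos_of_ne_zero hkpos)
  have hνpos : 0 < ν := Nat.pos_of_dvd_of_pos e7 hspos
  obtain ⟨ν', hν'⟩ := e6
  have hrN : ld.N = ld.r * (ld.N / ld.r) := by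
    have h3 : ld.r ∣ ld.N := by
      refine dvd_trans ?_ hNH
      rw [e2, hν']
      exact ⟨c * ν' * t, by ring⟩
    exact (Nat.mul_div_cancel' h3).symm
  have htN : t ∣ ld.N / ld.r := by
    have h3 : ld.r * t ∣ ld.N := by
      refine dvd_trans ?_ hNH
      rw [e2, hν']
      exact ⟨c * ν', by ring⟩
    rw [hrN] at h3
    exact Nat.dvd_of_mul_dvd_mul_left hp.pos h3
  have htN' : t ∣ ld.N := htN.trans (Nat.div_dvd_of_dvd (by rw [hrN]; exact dvd_mul_right _ _))
  refine ⟨k, s, t, e1, htN, ?_, ?_, mem_divsT hfN htN', e5, ?_, ?_, ?_⟩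
  · rcases e10 with h | ⟨S, i1, i2, hS, hna, hSc⟩
    · rw [h]
      exact List.mem_cons_self
    · rw [← hSc]
      refine List.mem_cons_of_mem _ (ho S hS hna ?_)
      rw [hSc]
      exact dvd_trans (by rw [e1]; exact ⟨k * t, by ring⟩) hHn
  · exact (Dvd.intro _ hν'.symm).trans e7
  · intro p hpp
    obtain ⟨j, hj, hjm⟩ := e9 p hpp
    unfold okexp
    rw [List.any_eq_true]
    have hjle : j ≤ k.factorization p := (hpp.pow_dvd_iff_le_factorization hkpos).1 (hj.trans e4)
    refine ⟨j, List.mem_range.2 (by omega), ?_⟩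
    rw [Bool.and_eq_true, beq_iff_eq, beq_iff_eq]
    refine ⟨Nat.mod_eq_zero_of_dvd ((hj.trans e3).trans hCH), ?_⟩
    by_cases hpr : p = ld.r
    · have h3 : k.factorization p = 0 := by
        rw [hpr]
        exact Nat.factorization_eq_zero_of_not_dvd e5
      have h4 : j = 0 := by omega
      rw [h3, h4, Nat.sub_zero, pow_zero]
    · have h3 : p ^ (k.factorization p) = p ^ j * p ^ (k.factorization p - j) := by
        rw [← pow_add]
        congr 1
        omega
      have h4 : p ^ j * p ^ (k.factorization p - j) ≡ p ^ j * 1 [MOD ld.r] := by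
        rw [← h3, mul_one]
        exact hjm
      have h5 : Nat.gcd ld.r (p ^ j) = 1 := by
        apply Nat.Coprime.pow_right
        exact (Nat.coprime_primes hp hpp).2 (Ne.symm hpr)
      exact Nat.ModEq.cancel_left_of_coprime h5 h4
  · unfold nuc
    rw [Bool.or_eq_true, List.any_eq_true]
    right
    refine ⟨ν, mem_divsT hfN (dvd_trans ?_ hNH), ?_⟩
    · rw [e2]
      exact ⟨c * t, by ring⟩
    · rw [Bool.and_eq_true, Bool.and_eq_true, Bool.and_eq_true, beq_iff_eq, beq_iff_eq, beq_iff_eq, beq_iff_eq]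
      refine ⟨⟨⟨Nat.mod_eq_zero_of_dvd ⟨ν', hν'⟩, Nat.mod_eq_zero_of_dvd ?_⟩, Nat.mod_eq_zero_of_dvd e7⟩, e8⟩
      obtain ⟨z, hz⟩ := hNH
      rw [hz, e2]
      refine ⟨c * z, ?_⟩
      apply Nat.div_eq_of_eq_mul_left htpos
      ring
  · refine ⟨Nat.card (normalizer (R : Set H)), mem_divsT hfN hNH, ?_, card_subgroup_dvd_card _, ?_⟩
    · rw [e2, hν']
      exact ⟨c * ν' * t, by ring⟩
    · have hidx : ¬ ld.r ∣ R.index := by
        intro h
        apply hH2
        rw [← card_mul_index R, hRc, pow_two]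
        exact Nat.mul_dvd_mul_left ld.r h
      have hRp : IsPGroup ld.r R := IsPGroup.of_card (n := 1) (by rw [hRc, pow_one])
      have h3 : Nat.card (Sylow ld.r H) ≡ 1 [MOD ld.r] := card_sylow_modEq_one ld.r H
      rw [Sylow.card_eq_index_normalizer (hRp.toSylow hidx)] at h3
      have h4 : Nat.card H / Nat.card (normalizer (R : Set H)) = (normalizer (R : Set H)).index := by
        apply Nat.div_eq_of_eq_mul_right Nat.card_pos
        exact (card_mul_index _).symm
      rw [h4]
      exact h3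

theorem val_le {l : List (ℕ × ℕ)} {n : ℕ} (hv : valid l n = true) {k : ℕ} (hk : k ∣ n) :
    ∀ x ∈ l, val x.1 x.2 k = k.factorization x.1 := by
  intro x hx
  have hn : 0 < n := valid_pos hv
  have hk0 : k ≠ 0 := (Nat.pos_of_dvd_of_pos hk hn).ne'
  have hp := valid_prime hv x hx
  refine val_eq hp _ _ hk0 ?_
  by_contra hlt
  push Not at hlt
  have h1 : x.1 ^ (x.2 + 1) ∣ k := (pow_dvd_pow _ hlt).trans (Nat.ordProj_dvd _ _)
  exact valid_exact hv x hx (h1.trans hk)

theorem feas_of {G : Type u} [Group G] [Finite G] {l : List (ℕ × ℕ)} {n : ℕ} (hv : valid l n = true)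
    (hn : Nat.card G = n) {ords : List ℕ} (ho : Ords.{u} n ords) {ld : LD} (hl : Loc G ld) {H : Subgroup G}
    (hr : ld.r ∣ Nat.card H) : feas l ld ords (Nat.card H) = true := by
  obtain ⟨k, s, t, e1, e2, e3, e4, e5, e6, e7, e8, y, hy, hy1, hy2, hy3⟩ := struct_sub hv hn ho hl hr
  have hHpos : 0 < Nat.card H := Nat.card_pos
  have hHn : Nat.card H ∣ n := hn ▸ card_subgroup_dvd_card H
  have hspos : 0 < s := Nat.pos_of_ne_zero (by rintro rfl; rw [mul_zero, zero_mul] at e1; omega)
  have htpos : 0 < t := Nat.pos_of_ne_zero (by rintro rfl; rw [mul_zero] at e1; omega)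
  have hdiv : Nat.card H / s = k * t := by
    apply Nat.div_eq_of_eq_mul_left hspos
    rw [e1]
    ring
  have hdiv2 : Nat.card H / s / t = k := by
    rw [hdiv, Nat.mul_div_cancel _ htpos]
  have hkn : k ∣ n := dvd_trans (by rw [e1]; exact ⟨s * t, by ring⟩) hHn
  unfold feas
  rw [Bool.and_eq_true, List.any_eq_true, List.any_eq_true]
  constructor
  · refine ⟨y, hy, ?_⟩
    rw [Bool.and_eq_true, Bool.and_eq_true, beq_iff_eq, beq_iff_eq, beq_iff_eq]
    exact ⟨⟨Nat.mod_eq_zero_of_dvd hy1, Nat.mod_eq_zero_of_dvd hy2⟩, hy3⟩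
  · refine ⟨s, e3, ?_⟩
    rw [Bool.and_eq_true, beq_iff_eq]
    refine ⟨Nat.mod_eq_zero_of_dvd e4, ?_⟩
    unfold feasS
    rw [Bool.and_eq_true, beq_iff_eq, List.any_eq_true]
    refine ⟨Nat.mod_eq_zero_of_dvd (by rw [e1]; exact ⟨k * t, by ring⟩), t, e5, ?_⟩
    rw [Bool.and_eq_true, Bool.and_eq_true, Bool.and_eq_true, Bool.and_eq_true, beq_iff_eq, beq_iff_eq, hdiv2, hdiv, bne_iff_ne]
    refine ⟨⟨⟨⟨Nat.mod_eq_zero_of_dvd e2, Nat.mod_eq_zero_of_dvd (dvd_mul_left _ _)⟩, fun h => e6 (Nat.dvd_of_mod_eq_zero h)⟩, ?_⟩, e8⟩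
    unfold pc
    rw [List.all_eq_true]
    intro x hx
    rw [val_le hv hkn x hx]
    exact e7 _ (valid_prime hv x hx)

/-- **the test is sound** -/
theorem not_bad {G : Type u} [Group G] [Finite G] [IsSimpleGroup G] {l : List (ℕ × ℕ)} {n : ℕ} (hv : valid l n = true)
    (hn : Nat.card G = n) {ords : List ℕ} (ho : Ords.{u} n ords) {loc : List LD} (hl : ∀ ld ∈ loc, Loc G ld)
    {full : List ℕ} {bd : ℕ} {H : Subgroup G}
    (hfull : ∀ p ∈ full, ∃ (_ : Fact p.Prime) (P : Sylow p G), normalizer ((P : Subgroup G) : Set G) ≤ H)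
    (hH : H ≠ ⊤) : bad l n full bd loc ords (Nat.card H) = false := by
  have hidx : n / Nat.card H = H.index := by
    rw [← hn]
    apply Nat.div_eq_of_eq_mul_right Nat.card_pos
    exact (card_mul_index _).symm
  unfold bad
  rw [Bool.or_eq_false_iff, Bool.or_eq_false_iff, hidx]
  refine ⟨⟨?_, ?_⟩, ?_⟩
  · rw [List.any_eq_false]
    intro p hp h
    obtain ⟨_, P, hP⟩ := hfull p hp
    rw [bne_iff_ne] at h
    exact h (MaxCls.index_modEq_one P hP)
  · rw [Bool.and_eq_false_iff]
    right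
    rw [bne_eq_false_iff_eq]
    exact Nat.mod_eq_zero_of_dvd (hn ▸ MaxCls.card_dvd_factorial hH)
  · rw [List.any_eq_false]
    intro ld hld h
    rw [Bool.and_eq_true, beq_iff_eq, Bool.not_eq_true'] at h
    have h1 := feas_of hv hn ho (hl ld hld) (Nat.dvd_of_mod_eq_zero h.1)
    rw [h1] at h
    exact absurd h.2 (by decide)

/-! ### the checks -/

/-- all indices dividing `prodl lD`, except `1` and those in `allow`, are excluded -/
def check (l : List (ℕ × ℕ)) (n : ℕ) (lD : List (ℕ × ℕ)) (allow full : List ℕ) (bd : ℕ) (loc : List LD) (ords : List ℕ) : Bool :=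
  (divsT lD).all fun d => d == 1 || allow.contains d || bad l n full bd loc ords (n / d)

theorem top_of_check {G : Type u} [Group G] [Finite G] [IsSimpleGroup G] {l : List (ℕ × ℕ)} {n : ℕ} (hv : valid l n = true)
    (hn : Nat.card G = n) {ords : List ℕ} (ho : Ords.{u} n ords) {loc : List LD} (hl : ∀ ld ∈ loc, Loc G ld)
    {allow full : List ℕ} {bd : ℕ} {lD : List (ℕ × ℕ)} (hlD : ∀ x ∈ lD, (x.1).Prime) {L : ℕ} (hL : L * prodl lD = n) {H : Subgroup G}
    (hfull : ∀ p ∈ full, ∃ (_ : Fact p.Prime) (P : Sylow p G), normalizer ((P : Subgroup G) : Set G) ≤ H)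
    (hLH : L ∣ Nat.card H) (hc : check l n lD allow full bd loc ords = true) : H = ⊤ ∨ H.index ∈ allow := by
  by_contra hH'
  push Not at hH'
  obtain ⟨hH, hal⟩ := hH'
  have hd : H.index ∣ prodl lD := by
    obtain ⟨z, hz⟩ := hLH
    have h1 := card_mul_index H
    rw [hn, ← hL, hz] at h1
    have hLpos : 0 < L := Nat.pos_of_ne_zero (by
      rintro rfl
      rw [zero_mul] at hL
      exact (valid_pos hv).ne hL)
    have h2 : z * H.index = prodl lD := by
      apply Nat.eq_of_mul_eq_mul_left hLpos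
      rw [← h1]
      ring
    exact ⟨z, by rw [← h2]; ring⟩
  unfold check at hc
  rw [List.all_eq_true] at hc
  have h1 := hc _ (mem_divsT hlD hd)
  rw [Bool.or_eq_true, Bool.or_eq_true, beq_iff_eq, List.contains_iff_mem] at h1
  have h2 : n / H.index = Nat.card H := by
    rw [← hn]
    apply Nat.div_eq_of_eq_mul_left (Nat.pos_of_ne_zero index_ne_zero_of_finite)
    exact (card_mul_index _).symm
  rcases h1 with (h1 | h1) | h1
  · exact hH (index_eq_one.1 h1)
  · exact hal h1
  · rw [h2, not_bad hv hn ho hl hfull hH] at h1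
    exact absurd h1 (by decide)

/-- products with admissible exponents -/
def allK (r C n : ℕ) (P : ℕ → Bool) : List (ℕ × ℕ) → ℕ → Bool
  | [], m => P m
  | x :: l, m => (List.range (x.2 + 1)).all fun a => !(okexp r C x.1 a) || n % (m * x.1 ^ a) != 0 || allK r C n P l (m * x.1 ^ a)

/-- enumeration at a main prime -/
def check2 (l : List (ℕ × ℕ)) (n L : ℕ) (ld : LD) (full : List ℕ) (bd : ℕ) (loc : List LD) (ords : List ℕ) : Bool :=
  L % ld.r == 0 && (ld.r :: ords).all fun s => s % ld.r != 0 || n % s != 0 || (divsT ld.fN).all fun t =>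
    (ld.N / ld.r) % t != 0 || n % (s * t) != 0 || !(nuc (divsT ld.fN) ld.r ld.N s t) ||
      allK ld.r ld.C n (fun m => m % L != 0 || m == n || bad l n full bd loc ords m) l (s * t)

theorem allK_sound {r C n : ℕ} {P : ℕ → Bool} : ∀ {l : List (ℕ × ℕ)} {m : ℕ}, allK r C n P l m = true →
    ∀ (f : ℕ → ℕ), (∀ x ∈ l, f x.1 ≤ x.2 ∧ okexp r C x.1 (f x.1) = true) →
      m * (l.map fun x => x.1 ^ f x.1).prod ∣ n → P (m * (l.map fun x => x.1 ^ f x.1).prod) = true := by
  intro l
  induction l with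
  | nil =>
    intro m h f _ _
    rw [List.map_nil, List.prod_nil, mul_one]
    exact h
  | cons x l ih =>
    intro m h f hf hd
    unfold allK at h
    rw [List.all_eq_true] at h
    have hx := hf x List.mem_cons_self
    have h1 := h (f x.1) (List.mem_range.2 (by omega))
    rw [List.map_cons, List.prod_cons, ← mul_assoc] at hd ⊢
    rw [Bool.or_eq_true, Bool.or_eq_true, hx.2, bne_iff_ne] at h1
    rcases h1 with (h1 | h1) | h1
    · exact absurd h1 (by decide)
    · exact absurd (Nat.mod_eq_zero_of_dvd ((dvd_mul_right _ _).trans hd)) h1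
    · exact ih h1 f (fun y hy => hf y (List.mem_cons_of_mem _ hy)) hd

theorem prod_factor {l : List (ℕ × ℕ)} {n : ℕ} (hv : valid l n = true) (hnd : (l.map fun x => x.1).Nodup) {k : ℕ} (hk : k ∣ n) :
    (l.map fun x => x.1 ^ k.factorization x.1).prod = k := by
  have hk0 : k ≠ 0 := (Nat.pos_of_dvd_of_pos hk (valid_pos hv)).ne'
  have h1 : (l.map fun x => x.1 ^ k.factorization x.1) = (l.map fun x => x.1).map fun p => p ^ k.factorization p := by
    rw [List.map_map]
    rfl
  rw [h1, ← List.prod_toFinset _ hnd]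
  conv_rhs => rw [← Nat.factorization_prod_pow_eq_self hk0]
  rw [Finsupp.prod]
  symm
  apply Finset.prod_subset
  · intro p hp
    rw [Nat.support_factorization, Nat.mem_primeFactors] at hp
    obtain ⟨e, he, _⟩ := exists_pair hv hp.1 le_rfl (by rw [pow_one]; exact hp.2.1.trans hk)
    rw [List.mem_toFinset, List.mem_map]
    exact ⟨_, he, rfl⟩
  · intro p _ hp
    rw [Finsupp.notMem_support_iff] at hp
    rw [hp, pow_zero]

theorem top_of_check2 {G : Type u} [Group G] [Finite G] [IsSimpleGroup G] {l : List (ℕ × ℕ)} {n : ℕ} (hv : valid l n = true)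
    (hnd : (l.map fun x => x.1).Nodup)
    (hn : Nat.card G = n) {ords : List ℕ} (ho : Ords.{u} n ords) {loc : List LD} (hl : ∀ ld ∈ loc, Loc G ld)
    {full : List ℕ} {bd : ℕ} {L : ℕ} {H : Subgroup G} {ld : LD} (hld : Loc G ld)
    (hfull : ∀ p ∈ full, ∃ (_ : Fact p.Prime) (P : Sylow p G), normalizer ((P : Subgroup G) : Set G) ≤ H)
    (hLH : L ∣ Nat.card H) (hc : check2 l n L ld full bd loc ords = true) : H = ⊤ := by
  by_contra hH
  unfold check2 at hc
  rw [Bool.and_eq_true, beq_iff_eq, List.all_eq_true] at hc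
  obtain ⟨hc1, hc2⟩ := hc
  have hr : ld.r ∣ Nat.card H := (Nat.dvd_of_mod_eq_zero hc1).trans hLH
  obtain ⟨k, s, t, e1, e2, e3, e4, e5, e6, e7, e8, -⟩ := struct_sub hv hn ho hld hr
  have hHn : Nat.card H ∣ n := hn ▸ card_subgroup_dvd_card H
  have hkn : k ∣ n := dvd_trans (by rw [e1]; exact ⟨s * t, by ring⟩) hHn
  have h1 := hc2 s e3
  rw [Bool.or_eq_true, Bool.or_eq_true, bne_iff_ne, bne_iff_ne, List.all_eq_true] at h1
  rcases h1 with (h1 | h1) | h1
  · exact h1 (Nat.mod_eq_zero_of_dvd e4)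
  · exact h1 (Nat.mod_eq_zero_of_dvd (dvd_trans (by rw [e1]; exact ⟨k * t, by ring⟩) hHn))
  · have h2 := h1 t e5
    rw [Bool.or_eq_true, Bool.or_eq_true, Bool.or_eq_true, bne_iff_ne, bne_iff_ne, e8] at h2
    rcases h2 with ((h2 | h2) | h2) | h2
    · exact h2 (Nat.mod_eq_zero_of_dvd e2)
    · exact h2 (Nat.mod_eq_zero_of_dvd (dvd_trans (by rw [e1]; exact ⟨k, by ring⟩) hHn))
    · exact absurd h2 (by decide)
    · have h3 := allK_sound h2 (fun p => k.factorization p) (fun x hx => ⟨?_, e7 _ (valid_prime hv x hx)⟩)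
      · rw [prod_factor hv hnd hkn] at h3
        have h4 : s * t * k = Nat.card H := by rw [e1]; ring
        rw [h4] at h3
        have h5 := h3 hHn
        rw [Bool.or_eq_true, Bool.or_eq_true, bne_iff_ne, beq_iff_eq, not_bad hv hn ho hl hfull hH] at h5
        rcases h5 with (h5 | h5) | h5
        · exact h5 (Nat.mod_eq_zero_of_dvd hLH)
        · exact hH ((card_eq_iff_eq_top H).1 (by rw [h5, hn]))
        · exact absurd h5 (by decide)
      · by_contra hlt
        push Not at hlt
        have h6 : x.1 ^ (x.2 + 1) ∣ k := (pow_dvd_pow _ hlt).trans (Nat.ordProj_dvd _ _)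
        exact valid_exact hv x hx (h6.trans hkn)

/-! ### the interface -/

/-- the subgroup contains the normalizer of a Sylow `p`-subgroup -/
def Full {G : Type u} [Group G] (p : ℕ) (A : Subgroup G) : Prop :=
  ∃ (_ : Fact p.Prime) (P : Sylow p G), normalizer ((P : Subgroup G) : Set G) ≤ A

theorem Full.mono {G : Type u} [Group G] {p : ℕ} {A B : Subgroup G} (h : Full p A) (hAB : A ≤ B) : Full p B := by
  obtain ⟨h1, P, hP⟩ := h
  exact ⟨h1, P, hP.trans hAB⟩

theorem Full.conj {G : Type u} [Group G] {p : ℕ} {A B : Subgroup G} (h : Full p A) {g : G}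
    (hAB : ∀ x ∈ A, g * x * g⁻¹ ∈ B) : Full p B := by
  obtain ⟨h1, P, hP⟩ := h
  refine ⟨h1, g • P, ?_⟩
  intro x hx
  have h3 : g⁻¹ * x * g ∈ normalizer ((P : Subgroup G) : Set G) := by
    rw [mem_normalizer_iff] at hx ⊢
    intro y
    have h4 := hx (g * y * g⁻¹)
    have e1 : (g * y * g⁻¹ ∈ (((g • P : Sylow p G) : Subgroup G) : Set G)) ↔ y ∈ (P : Subgroup G) := by
      rw [SetLike.mem_coe, Sylow.coe_subgroup_smul, mem_pointwise_smul_iff_inv_smul_mem]
      have : (MulAut.conj g)⁻¹ • (g * y * g⁻¹) = y := by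
        rw [← map_inv]
        show g⁻¹ * (g * y * g⁻¹) * g⁻¹⁻¹ = y
        group
      rw [this]
    have e2 : (x * (g * y * g⁻¹) * x⁻¹ ∈ (((g • P : Sylow p G) : Subgroup G) : Set G)) ↔
        g⁻¹ * x * g * y * (g⁻¹ * x * g)⁻¹ ∈ (P : Subgroup G) := by
      rw [SetLike.mem_coe, Sylow.coe_subgroup_smul, mem_pointwise_smul_iff_inv_smul_mem]
      have : (MulAut.conj g)⁻¹ • (x * (g * y * g⁻¹) * x⁻¹) = g⁻¹ * x * g * y * (g⁻¹ * x * g)⁻¹ := by
        rw [← map_inv]
        show g⁻¹ * (x * (g * y * g⁻¹) * x⁻¹) * g⁻¹⁻¹ = _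
        group
      rw [this]
    rw [SetLike.mem_coe] at e1 e2
    exact (e1.symm.trans h4).trans e2
  have h5 := hAB _ (hP h3)
  have h6 : g * (g⁻¹ * x * g) * g⁻¹ = x := by group
  rwa [h6] at h5

theorem full_normalizer {G : Type u} [Group G] {p : ℕ} (hp : p.Prime) (P : Sylow p G) :
    Full p (normalizer ((P : Subgroup G) : Set G)) :=
  ⟨⟨hp⟩, P, le_rfl⟩

/-- everything the engine needs about `G` -/
structure Ctx (G : Type u) [Group G] (l : List (ℕ × ℕ)) (n : ℕ) (ords : List ℕ) (loc : List LD) : Prop where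
  fin : Finite G
  simple : IsSimpleGroup G
  card : Nat.card G = n
  val : valid l n = true
  nodup : (l.map fun x => x.1).Nodup
  ords : Ords.{u} n ords
  loc : ∀ ld ∈ loc, Loc G ld

/-- the Boolean for the pair with orders divisible by `a`, `b` -/
def chk (l : List (ℕ × ℕ)) (n a b : ℕ) (lD : List (ℕ × ℕ)) (allow full : List ℕ) (bd : ℕ) (loc : List LD) (ords : List ℕ) : Bool :=
  (lD.all fun x => isPrimeB x.1) && Nat.lcm a b * prodl lD == n && check l n lD allow full bd loc ords

/-- the Boolean for the pair, enumeration at the main prime `ld.r` -/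
def chk2 (l : List (ℕ × ℕ)) (n a b : ℕ) (ld : LD) (full : List ℕ) (bd : ℕ) (loc : List LD) (ords : List ℕ) : Bool :=
  check2 l n (Nat.lcm a b) ld full bd loc ords

variable {G : Type u} [Group G] {l : List (ℕ × ℕ)} {n : ℕ} {ords : List ℕ} {loc : List LD}

/-- overgroups -/
theorem Ctx.over (c : Ctx G l n ords loc) {a b : ℕ} (lD : List (ℕ × ℕ)) (allow full : List ℕ) (bd : ℕ)
    (hc : chk l n a b lD allow full bd loc ords = true) {H : Subgroup G} (ha : a ∣ Nat.card H) (hb : b ∣ Nat.card H)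
    (hf : ∀ p ∈ full, Full p H) : H = ⊤ ∨ H.index ∈ allow := by
  haveI := c.fin
  haveI := c.simple
  unfold chk at hc
  rw [Bool.and_eq_true, Bool.and_eq_true, List.all_eq_true, beq_iff_eq] at hc
  exact top_of_check c.val c.card c.ords c.loc (fun x hx => prime_of (hc.1.1 x hx)) hc.1.2 hf (Nat.lcm_dvd ha hb) hc.2

/-- **two subgroups with orders divisible by `a`, `b` are apart** -/
theorem Ctx.apart (c : Ctx G l n ords loc) {A B : Subgroup G} {a b : ℕ} (ha : a ∣ Nat.card A) (hb : b ∣ Nat.card B)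
    (lD : List (ℕ × ℕ)) (fA fB : List ℕ) (bd : ℕ) (hfA : ∀ p ∈ fA, Full p A) (hfB : ∀ p ∈ fB, Full p B)
    (hc : chk l n a b lD [] (fA ++ fB) bd loc ords = true) : MaxCls.Apart A B := by
  intro g K h1 h2
  haveI := c.fin
  have hb' : b ∣ Nat.card K := by
    refine hb.trans ?_
    rw [← MaxCls.card_map_conj g]
    exact card_dvd_of_le (MaxCls.map_conj_le h2)
  have h3 := c.over lD [] (fA ++ fB) bd hc (ha.trans (card_dvd_of_le h1)) hb' (fun p hp => by
    rcases List.mem_append.1 hp with hp | hp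
    · exact (hfA p hp).mono h1
    · exact (hfB p hp).conj h2)
  rcases h3 with h3 | h3
  · exact h3
  · exact absurd h3 List.not_mem_nil

/-- the same with the enumeration at a main prime -/
theorem Ctx.apart2 (c : Ctx G l n ords loc) {A B : Subgroup G} {a b : ℕ} (ha : a ∣ Nat.card A) (hb : b ∣ Nat.card B)
    (ld : LD) (hld : ld ∈ loc) (fA fB : List ℕ) (bd : ℕ) (hfA : ∀ p ∈ fA, Full p A) (hfB : ∀ p ∈ fB, Full p B)
    (hc : chk2 l n a b ld (fA ++ fB) bd loc ords = true) : MaxCls.Apart A B := by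
  intro g K h1 h2
  haveI := c.fin
  haveI := c.simple
  have hb' : b ∣ Nat.card K := by
    refine hb.trans ?_
    rw [← MaxCls.card_map_conj g]
    exact card_dvd_of_le (MaxCls.map_conj_le h2)
  unfold chk2 at hc
  exact top_of_check2 c.val c.nodup c.card c.ords c.loc (c.loc ld hld) (fun p hp => by
    rcases List.mem_append.1 hp with hp | hp
    · exact (hfA p hp).mono h1
    · exact (hfB p hp).conj h2) (Nat.lcm_dvd (ha.trans (card_dvd_of_le h1)) hb') hc

/-- numerical maximality -/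
theorem Ctx.coatom (c : Ctx G l n ords loc) {A : Subgroup G} (hA : A ≠ ⊤) (lD : List (ℕ × ℕ)) (full : List ℕ) (bd : ℕ) {a : ℕ}
    (ha : Nat.card A = a) (hf : ∀ p ∈ full, Full p A) (hc : chk l n a a lD [n / a] full bd loc ords = true) : IsCoatom A := by
  haveI := c.fin
  refine ⟨hA, fun K hK => ?_⟩
  have hd : a ∣ Nat.card K := ha ▸ card_dvd_of_le hK.le
  rcases c.over lD [n / a] full bd hc hd hd (fun p hp => (hf p hp).mono hK.le) with h | h
  · exact h
  · exfalso
    rw [List.mem_singleton] at h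
    have h1 : A.index = n / a := by
      rw [← c.card, ← ha]
      symm
      apply Nat.div_eq_of_eq_mul_right Nat.card_pos
      exact (card_mul_index _).symm
    have h2 : Nat.card A = Nat.card K := by
      have h3 := card_mul_index A
      have h4 := card_mul_index K
      rw [h, ← h1, ← h3] at h4
      exact (Nat.eq_of_mul_eq_mul_right (Nat.pos_of_ne_zero index_ne_zero_of_finite) h4).symm
    exact hK.ne (eq_of_le_of_card_ge hK.le h2.ge)

end Cfsg.Agent.H940.Eng
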