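import Cfsg.Agent.H940.Engine

/-!
# The covering argument (helper940)

`sep_of_cover` : if the known proper subgroups cannot be covered by four orders of proper subgroups then `G` has at
least five classes of maximal subgroups. More general than five pairwise apart subgroups.
-/

set_option autoImplicit false

namespace Cfsg.Agent.H940.Eng

open Subgroup Cfsg.Agent.OrdDiv Cfsg.Agent.H940 Cfsg.Agent.H940.MaxCls

universe u

/-! ### lists of the possible orders of the proper overgroups -/

/-- all orders of proper subgroups of order divisible by `a` (and `full`) are in `os`: enumeration of the divisors of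
`n / a = prodl lD` -/
def chkO (l : List (ℕ × ℕ)) (n a : ℕ) (lD : List (ℕ × ℕ)) (os full : List ℕ) (bd : ℕ) (loc : List LD) (ords : List ℕ) : Bool :=
  (lD.all fun x => isPrimeB x.1) && a * prodl lD == n &&
    (divsT lD).all fun d => d == 1 || os.contains (n / d) || bad l n full bd loc ords (n / d)

/-- the same, enumeration at the prime `ld.r` -/
def chkO2 (l : List (ℕ × ℕ)) (n a : ℕ) (ld : LD) (os full : List ℕ) (bd : ℕ) (loc : List LD) (ords : List ℕ) : Bool :=
  a % ld.r == 0 && (ld.r :: ords).all fun s => s % ld.r != 0 || n % s != 0 || (divsT ld.fN).all fun t =>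
    (ld.N / ld.r) % t != 0 || n % (s * t) != 0 || !(nuc (divsT ld.fN) ld.r ld.N s t) ||
      allK ld.r ld.C n (fun m => m % a != 0 || m == n || os.contains m || bad l n full bd loc ords m) l (s * t)

section orders

variable {G : Type u} [Group G] {l : List (ℕ × ℕ)} {n : ℕ} {ords : List ℕ} {loc : List LD}

theorem Ctx.ordersD (c : Ctx G l n ords loc) {a : ℕ} (lD : List (ℕ × ℕ)) (os full : List ℕ) (bd : ℕ)
    (hc : chkO l n a lD os full bd loc ords = true) {K : Subgroup G} (ha : a ∣ Nat.card K)
    (hf : ∀ p ∈ full, Full p K) (hK : K ≠ ⊤) : Nat.card K ∈ os := by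
  haveI := c.fin
  haveI := c.simple
  unfold chkO at hc
  rw [Bool.and_eq_true, Bool.and_eq_true, List.all_eq_true, beq_iff_eq, List.all_eq_true] at hc
  obtain ⟨⟨h1, h2⟩, h3⟩ := hc
  have hcard := card_mul_index K
  rw [c.card] at hcard
  have hpos : 0 < K.index := Nat.pos_of_ne_zero index_ne_zero_of_finite
  have hapos : 0 < a := Nat.pos_of_ne_zero (by
    rintro rfl
    rw [zero_mul] at h2
    exact (valid_pos c.val).ne h2)
  have hd : K.index ∣ prodl lD := by
    obtain ⟨z, hz⟩ := ha
    have h4 : z * K.index = prodl lD := by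
      apply Nat.eq_of_mul_eq_mul_left hapos
      rw [h2, ← hcard, hz]
      ring
    exact ⟨z, by rw [← h4]; ring⟩
  have h5 := h3 _ (mem_divsT (fun x hx => prime_of (h1 x hx)) hd)
  have h6 : n / K.index = Nat.card K := Nat.div_eq_of_eq_mul_left hpos hcard.symm
  rw [h6, Bool.or_eq_true, Bool.or_eq_true, beq_iff_eq, List.contains_iff_mem] at h5
  rcases h5 with (h5 | h5) | h5
  · exact absurd (index_eq_one.1 h5) hK
  · exact h5
  · rw [not_bad c.val c.card c.ords c.loc hf hK] at h5
    exact absurd h5 (by decide)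

theorem Ctx.orders2 (c : Ctx G l n ords loc) {a : ℕ} (ld : LD) (hld : ld ∈ loc) (os full : List ℕ) (bd : ℕ)
    (hc : chkO2 l n a ld os full bd loc ords = true) {K : Subgroup G} (ha : a ∣ Nat.card K)
    (hf : ∀ p ∈ full, Full p K) (hK : K ≠ ⊤) : Nat.card K ∈ os := by
  haveI := c.fin
  haveI := c.simple
  unfold chkO2 at hc
  rw [Bool.and_eq_true, beq_iff_eq, List.all_eq_true] at hc
  obtain ⟨hc1, hc2⟩ := hc
  have hr : ld.r ∣ Nat.card K := (Nat.dvd_of_mod_eq_zero hc1).trans ha
  obtain ⟨k, s, t, e1, e2, e3, e4, e5, e6, e7, e8, -⟩ := struct_sub c.val c.card c.ords (c.loc ld hld) hr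
  have hHn : Nat.card K ∣ n := c.card ▸ card_subgroup_dvd_card K
  have hkn : k ∣ n := dvd_trans (by rw [e1]; exact ⟨s * t, by ring⟩) hHn
  have h1 := hc2 s e3
  rw [Bool.or_eq_true, Bool.or_eq_true, bne_iff_ne, bne_iff_ne, List.all_eq_true] at h1
  rcases h1 with (h1 | h1) | h1
  · exact absurd (Nat.mod_eq_zero_of_dvd e4) h1
  · exact absurd (Nat.mod_eq_zero_of_dvd (dvd_trans (by rw [e1]; exact ⟨k * t, by ring⟩) hHn)) h1
  · have h2 := h1 t e5
    rw [Bool.or_eq_true, Bool.or_eq_true, Bool.or_eq_true, bne_iff_ne, bne_iff_ne, e8] at h2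
    rcases h2 with ((h2 | h2) | h2) | h2
    · exact absurd (Nat.mod_eq_zero_of_dvd e2) h2
    · exact absurd (Nat.mod_eq_zero_of_dvd (dvd_trans (by rw [e1]; exact ⟨k, by ring⟩) hHn)) h2
    · exact absurd h2 (by decide)
    · have h3 := allK_sound h2 (fun p => k.factorization p) (fun x hx => ⟨?_, e7 _ (valid_prime c.val x hx)⟩)
      · rw [prod_factor c.val c.nodup hkn] at h3
        have h4 : s * t * k = Nat.card K := by rw [e1]; ring
        rw [h4] at h3
        have h5 := h3 hHn
        rw [Bool.or_eq_true, Bool.or_eq_true, Bool.or_eq_true, bne_iff_ne, beq_iff_eq, List.contains_iff_mem,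
          not_bad c.val c.card c.ords c.loc hf hK] at h5
        rcases h5 with ((h5 | h5) | h5) | h5
        · exact absurd (Nat.mod_eq_zero_of_dvd ha) h5
        · exact absurd ((card_eq_iff_eq_top K).1 (by rw [h5, c.card])) hK
        · exact h5
        · exact absurd h5 (by decide)
      · by_contra hlt
        push Not at hlt
        have h6 : x.1 ^ (x.2 + 1) ∣ k := (pow_dvd_pow _ hlt).trans (Nat.ordProj_dvd _ _)
        exact valid_exact c.val x hx (h6.trans hkn)

end orders

/-! ### the covering argument -/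

/-- an item: its name, a divisor of its order, its full primes, the possible orders of its proper overgroups -/
structure CI where
  id : ℕ
  a : ℕ
  full : List ℕ
  ords : List ℕ

/-- the order `m` is compatible with the item -/
def CI.cov (n m : ℕ) (x : CI) : Bool := m % x.a == 0 && x.full.all fun p => (n / m) % p == 1 % p

/-- `k` orders do not suffice; `ap i j` : the items `i` and `j` are known to be apart -/
def covB (n : ℕ) (ap : ℕ → ℕ → Bool) : ℕ → List CI → Bool
  | _, [] => false
  | 0, _ :: _ => true
  | k + 1, x :: l => x.ords.all fun m => covB n ap k (l.filter fun y => !(y.cov n m) || ap x.id y.id)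

/-- the item `x` describes the subgroup `A` -/
structure CI.Good {G : Type u} [Group G] (x : CI) (A : Subgroup G) : Prop where
  ne : A ≠ ⊤
  dvd : x.a ∣ Nat.card A
  full : ∀ p ∈ x.full, Full p A
  ords : ∀ K : Subgroup G, A ≤ K → K ≠ ⊤ → Nat.card K ∈ x.ords

/-- `A` is contained in a conjugate of `M` -/
def Sub {G : Type u} [Group G] (A M : Subgroup G) : Prop := ∃ g : G, ∀ x ∈ A, g * x * g⁻¹ ∈ M

theorem cov_of_sub {G : Type u} [Group G] [Finite G] {n : ℕ} (hn : Nat.card G = n) {x : CI} {A M : Subgroup G}
    (h : x.Good A) (hs : Sub A M) : x.cov n (Nat.card M) = true := by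
  obtain ⟨g, hg⟩ := hs
  unfold CI.cov
  rw [Bool.and_eq_true, beq_iff_eq, List.all_eq_true]
  refine ⟨Nat.mod_eq_zero_of_dvd (h.dvd.trans ?_), fun p hp => ?_⟩
  · rw [← card_map_conj g]
    exact card_dvd_of_le (map_conj_le hg)
  · rw [beq_iff_eq]
    obtain ⟨hp', P, hP⟩ := (h.full p hp).conj hg
    have h1 := index_modEq_one P hP
    have h2 : n / Nat.card M = M.index := by
      rw [← hn, ← card_mul_index M]
      exact Nat.mul_div_cancel_left _ Nat.card_pos
    rw [h2]
    exact h1

theorem not_covB {G : Type u} [Group G] [Finite G] {n : ℕ} (hn : Nat.card G = n) {ap : ℕ → ℕ → Bool} :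
    ∀ (k : ℕ) (l : List CI) (Ms : List (Subgroup G)), Ms.length ≤ k → (∀ M ∈ Ms, M ≠ ⊤) →
      ∀ (A : CI → Subgroup G), (∀ x ∈ l, x.Good (A x)) →
        (∀ x ∈ l, ∀ y ∈ l, ap x.id y.id = true → Apart (A x) (A y)) →
        (∀ x ∈ l, ∃ M ∈ Ms, Sub (A x) M) → covB n ap k l = false := by
  classical
  intro k
  induction k with
  | zero =>
    intro l Ms hk hM A hg hap hcov
    cases l with
    | nil => rfl
    | cons x l =>
      exfalso
      obtain ⟨M, hM, -⟩ := hcov x List.mem_cons_self
      have : Ms = [] := List.length_eq_zero_iff.1 (Nat.le_zero.1 hk)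
      rw [this] at hM
      exact List.not_mem_nil hM
  | succ k ih =>
    intro l Ms hk hM A hg hap hcov
    cases l with
    | nil => rfl
    | cons x l =>
      by_contra hne
      rw [Bool.not_eq_false] at hne
      unfold covB at hne
      rw [List.all_eq_true] at hne
      obtain ⟨M, hMs, g, hgM⟩ := hcov x List.mem_cons_self
      have hx := hg x List.mem_cons_self
      -- the order of `M`
      have hord : Nat.card M ∈ x.ords := by
        have h1 : A x ≤ Subgroup.map (MulAut.conj g⁻¹).toMonoidHom M := by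
          intro y hy
          rw [mem_map_conj]
          have := hgM y hy
          rwa [inv_inv]
        have h2 := hx.ords _ h1 (by
          intro h3
          apply hM M hMs
          have h4 : Nat.card (Subgroup.map (MulAut.conj g⁻¹).toMonoidHom M) = Nat.card G := by
            rw [h3]
            exact card_top
          rw [card_map_conj] at h4
          exact (card_eq_iff_eq_top M).1 h4)
        rwa [card_map_conj] at h2
      have h1 := hne _ hord
      have h2 : covB n ap k (l.filter fun y => !(y.cov n (Nat.card M)) || ap x.id y.id) = false := by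
        refine ih _ (Ms.erase M) ?_ (fun M' hM' => hM M' (List.mem_of_mem_erase hM')) A
          (fun y hy => hg y (List.mem_cons_of_mem _ (List.mem_filter.1 hy).1))
          (fun y hy z hz => hap y (List.mem_cons_of_mem _ (List.mem_filter.1 hy).1) z
            (List.mem_cons_of_mem _ (List.mem_filter.1 hz).1)) ?_
        · have := List.length_erase_of_mem hMs
          rw [this]
          omega
        · intro y hy
          obtain ⟨hy1, hy2⟩ := List.mem_filter.1 hy
          obtain ⟨M', hM', hs⟩ := hcov y (List.mem_cons_of_mem _ hy1)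
          by_cases hMM : M' = M
          · exfalso
            subst hMM
            rw [Bool.or_eq_true] at hy2
            rcases hy2 with hy2 | hy2
            · rw [cov_of_sub hn (hg y (List.mem_cons_of_mem _ hy1)) hs] at hy2
              exact absurd hy2 (by decide)
            · have h3 := hap x List.mem_cons_self y (List.mem_cons_of_mem _ hy1) hy2
              obtain ⟨g', hg'⟩ := hs
              -- both lie in conjugates of `M'`
              have h4 : Subgroup.map (MulAut.conj g⁻¹).toMonoidHom M' = ⊤ := by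
                refine h3 (g⁻¹ * g') _ (fun z hz => ?_) (fun z hz => ?_)
                · rw [mem_map_conj, inv_inv]
                  exact hgM z hz
                · rw [mem_map_conj]
                  have h5 : g⁻¹⁻¹ * (g⁻¹ * g' * z * (g⁻¹ * g')⁻¹) * g⁻¹ = g' * z * g'⁻¹ := by group
                  rw [h5]
                  exact hg' z hz
              apply hM M' hMs
              have h5 : Nat.card (Subgroup.map (MulAut.conj g⁻¹).toMonoidHom M') = Nat.card G := by
                rw [h4]
                exact card_top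
              rw [card_map_conj] at h5
              exact (card_eq_iff_eq_top M').1 h5
          · exact ⟨M', (List.mem_erase_of_ne hMM).2 hM', hs⟩
      rw [h2] at h1
      exact absurd h1 (by decide)

/-- either there are `k + 1` pairwise not conjugate maximal subgroups or at most `k` of them represent all -/
theorem sep_or_list {G : Type u} [Group G] [Finite G] : ∀ k : ℕ, MaxCls.Sep (k + 1) G ∨
    ∃ Ms : List (Subgroup G), Ms.length ≤ k ∧ (∀ M ∈ Ms, IsCoatom M) ∧
      ∀ K : Subgroup G, IsCoatom K → ∃ M ∈ Ms, ∃ g : G, Subgroup.map (MulAut.conj g).toMonoidHom K = M := by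
  intro k
  -- strengthen: either a list of `k + 1` pairwise not conjugate coatoms, or a short complete list
  suffices h : (∃ Ms : List (Subgroup G), Ms.length = k + 1 ∧ (∀ M ∈ Ms, IsCoatom M) ∧
      Ms.Pairwise fun A B => ∀ g : G, Subgroup.map (MulAut.conj g).toMonoidHom A ≠ B) ∨
      ∃ Ms : List (Subgroup G), Ms.length ≤ k ∧ (∀ M ∈ Ms, IsCoatom M) ∧
        ∀ K : Subgroup G, IsCoatom K → ∃ M ∈ Ms, ∃ g : G, Subgroup.map (MulAut.conj g).toMonoidHom K = M by
    rcases h with ⟨Ms, h1, h2, h3⟩ | h
    · left
      rw [← h1]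
      refine sep_of_coatoms (fun i => Ms.get i) (fun i => h2 _ (List.get_mem _ _)) fun i j hij g => ?_
      exact List.pairwise_iff_get.1 h3 i j hij g
    · exact Or.inr h
  induction k with
  | zero =>
    by_cases h : ∃ K : Subgroup G, IsCoatom K
    · obtain ⟨K, hK⟩ := h
      exact Or.inl ⟨[K], rfl, by simpa using hK, by simp⟩
    · exact Or.inr ⟨[], le_rfl, by simp, fun K hK => absurd ⟨K, hK⟩ h⟩
  | succ k ih =>
    rcases ih with ⟨Ms, h1, h2, h3⟩ | ⟨Ms, h1, h2, h3⟩
    · by_cases h : ∀ K : Subgroup G, IsCoatom K → ∃ M ∈ Ms, ∃ g : G, Subgroup.map (MulAut.conj g).toMonoidHom K = M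
      · exact Or.inr ⟨Ms, h1.le, h2, h⟩
      · push Not at h
        obtain ⟨K, hK, hno⟩ := h
        left
        refine ⟨K :: Ms, by simp [h1], ?_, ?_⟩
        · intro M hM
          rcases List.mem_cons.1 hM with rfl | hM
          · exact hK
          · exact h2 M hM
        · rw [List.pairwise_cons]
          exact ⟨fun M hM g => hno M hM g, h3⟩
    · exact Or.inr ⟨Ms, h1.trans (Nat.le_succ k), h2, h3⟩

/-- **The covering argument.** -/
theorem sep_of_cover {G : Type u} [Group G] [Finite G] {n k : ℕ} (hn : Nat.card G = n) (ap : ℕ → ℕ → Bool) (l : List CI)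
    (A : CI → Subgroup G) (hg : ∀ x ∈ l, x.Good (A x))
    (hap : ∀ x ∈ l, ∀ y ∈ l, ap x.id y.id = true → Apart (A x) (A y)) (hc : covB n ap k l = true) :
    MaxCls.Sep (k + 1) G := by
  rcases sep_or_list (G := G) k with h | ⟨Ms, h1, h2, h3⟩
  · exact h
  · exfalso
    have h4 := not_covB hn k l Ms h1 (fun M hM => (h2 M hM).1) A hg hap (fun x hx => by
      obtain ⟨K, hK, hAK⟩ := exists_coatom_ge (hg x hx).ne
      obtain ⟨M, hM, g, hgM⟩ := h3 K hK
      refine ⟨M, hM, g, fun y hy => ?_⟩
      rw [← hgM, mem_map_conj]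
      have h5 : g⁻¹ * (g * y * g⁻¹) * g = y := by group
      rw [h5]
      exact hAK hy)
    rw [h4] at hc
    exact absurd hc (by decide)

section goods

variable {G : Type u} [Group G] {l : List (ℕ × ℕ)} {n : ℕ} {ords : List ℕ} {loc : List LD}

/-- an item from `chkO` -/
theorem Ctx.goodD (c : Ctx G l n ords loc) {A : Subgroup G} (hA : A ≠ ⊤) {x : CI} (ha : x.a ∣ Nat.card A)
    (hf : ∀ p ∈ x.full, Full p A) (lD : List (ℕ × ℕ)) (bd : ℕ)
    (hc : chkO l n x.a lD x.ords x.full bd loc ords = true) : x.Good A := by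
  haveI := c.fin
  exact ⟨hA, ha, hf, fun K hAK hK => c.ordersD lD x.ords x.full bd hc (ha.trans (card_dvd_of_le hAK))
    (fun p hp => (hf p hp).mono hAK) hK⟩

/-- an item from `chkO2` -/
theorem Ctx.good2 (c : Ctx G l n ords loc) {A : Subgroup G} (hA : A ≠ ⊤) {x : CI} (ha : x.a ∣ Nat.card A)
    (hf : ∀ p ∈ x.full, Full p A) (ld : LD) (hld : ld ∈ loc) (bd : ℕ)
    (hc : chkO2 l n x.a ld x.ords x.full bd loc ords = true) : x.Good A := by
  haveI := c.fin
  exact ⟨hA, ha, hf, fun K hAK hK => c.orders2 ld hld x.ords x.full bd hc (ha.trans (card_dvd_of_le hAK))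
    (fun p hp => (hf p hp).mono hAK) hK⟩

/-- an item from a maximal subgroup -/
theorem CI.good_of_coatom {A : Subgroup G} (hA : IsCoatom A) {x : CI} (ha : Nat.card A = x.a) (ho : x.a ∈ x.ords)
    (hf : ∀ p ∈ x.full, Full p A) : x.Good A := by
  refine ⟨hA.1, ha.symm.dvd, hf, fun K hAK hK => ?_⟩
  rcases eq_or_lt_of_le hAK with h | h
  · rw [← h, ha]
    exact ho
  · exact absurd (hA.2 K h) hK

end goods

end Cfsg.Agent.H940.Eng
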