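import Cfsg.Agent.H940.EngData
import Cfsg.Agent.H940.EngLoc
import Cfsg.Agent.H859.BigNum

/-!
# Row `J4` of S5906/S5907 (helper940): the normalizers of the Sylow subgroups for 23, 29, 31, 37, 43

A model for the other sporadic rows.
-/

set_option autoImplicit false

namespace Cfsg.Agent.H940.RowJ4

open Subgroup Cfsg.Agent.OrdDiv Cfsg.Agent.H940 Cfsg.Agent.H940.Eng Cfsg.Agent.H940.Eng.D
open Cfsg.Agent.H940.MaxCls

abbrev G : Type := Cfsg.Spor.J4

/-- the local data: the prime `r`, a multiple of `|C(R)|`, the factorization of a multiple of `|N(R)|` -/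
def loc : List LD := [⟨23, 23, [(2, 1), (11, 1), (23, 1)]⟩, ⟨29, 29, [(2, 2), (7, 1), (29, 1)]⟩,
  ⟨31, 31, [(2, 1), (5, 1), (31, 1)]⟩, ⟨37, 37, [(2, 2), (3, 1), (37, 1)]⟩, ⟨43, 43, [(2, 1), (7, 1), (43, 1)]⟩]

theorem simple : IsSimpleGroup G := Cfsg.Agent.S1703.result.1
theorem card : Nat.card G = n_j4 := Cfsg.Agent.S1703.result.2
theorem fin : Finite G := Nat.finite_of_card_ne_zero (by rw [card]; decide)

theorem ctx (B : Base) : Ctx G l_j4 n_j4 o_j4 loc where
  fin := fin
  simple := simple
  card := card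
  val := v_j4
  nodup := nd_j4
  ords := ords_j4 B
  loc := by
    haveI := fin
    haveI := simple
    intro ld hld
    simp only [loc, List.mem_cons, List.not_mem_nil, or_false] at hld
    rcases hld with rfl | rfl | rfl | rfl | rfl
    · exact loc_of_eq card (by decide +kernel) (by decide +kernel) (by decide +kernel) fun R hR => by
        obtain ⟨h1, h2⟩ := H859.BigNum.data23 hR
        rw [h1, h2]; decide
    · exact loc_of_eq card (by decide +kernel) (by decide +kernel) (by decide +kernel) fun R hR => by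
        obtain ⟨h1, h2⟩ := H859.BigNum.data29' hR
        rw [h1, h2]; decide
    · exact loc_of_eq card (by decide +kernel) (by decide +kernel) (by decide +kernel) fun R hR => by
        obtain ⟨h1, h2⟩ := H859.BigNum.data31 hR
        rw [h1, h2]; decide
    · exact loc_of_eq card (by decide +kernel) (by decide +kernel) (by decide +kernel) fun R hR => by
        obtain ⟨h1, h2⟩ := H859.BigNum.data37 hR
        rw [h1, h2]; decide
    · exact loc_of_eq card (by decide +kernel) (by decide +kernel) (by decide +kernel) fun R hR => by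
        obtain ⟨h1, h2⟩ := H859.BigNum.data43 hR
        rw [h1, h2]; decide

/-- the row `J4` -/
theorem five (B : Base) : Sep 5 G := by
  have c := ctx B
  haveI := c.fin
  haveI := c.simple
  have hc := card
  obtain ⟨R23, h23⟩ := exists_card_eq (G := G) (r := 23) (by decide +kernel) (by rw [hc]; decide +kernel)
  obtain ⟨R29, h29⟩ := exists_card_eq (G := G) (r := 29) (by decide +kernel) (by rw [hc]; decide +kernel)
  obtain ⟨R31, h31⟩ := exists_card_eq (G := G) (r := 31) (by decide +kernel) (by rw [hc]; decide +kernel)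
  obtain ⟨R37, h37⟩ := exists_card_eq (G := G) (r := 37) (by decide +kernel) (by rw [hc]; decide +kernel)
  obtain ⟨R43, h43⟩ := exists_card_eq (G := G) (r := 43) (by decide +kernel) (by rw [hc]; decide +kernel)
  have c23 := (H859.BigNum.data23 h23).2
  have c29 := (H859.BigNum.data29' h29).2
  have c31 := (H859.BigNum.data31 h31).2
  have c37 := (H859.BigNum.data37 h37).2
  have c43 := (H859.BigNum.data43 h43).2
  have ne : ∀ {R : Subgroup G} {k : ℕ}, Nat.card (normalizer (R : Set G)) = k → (k != n_j4) = true →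
      normalizer (R : Set G) ≠ ⊤ := by
    intro R k h1 h2 h3
    rw [h3, card_top, hc] at h1
    rw [bne_iff_ne] at h2
    exact h2 h1.symm
  have f23 : ∀ p ∈ [23], Full p (normalizer (R23 : Set G)) := by
    intro p hp; rw [List.mem_singleton.1 hp]
    exact full_of_card hc (by decide +kernel) (by decide +kernel) h23
  have f29 : ∀ p ∈ [29], Full p (normalizer (R29 : Set G)) := by
    intro p hp; rw [List.mem_singleton.1 hp]
    exact full_of_card hc (by decide +kernel) (by decide +kernel) h29
  have f31 : ∀ p ∈ [31], Full p (normalizer (R31 : Set G)) := by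
    intro p hp; rw [List.mem_singleton.1 hp]
    exact full_of_card hc (by decide +kernel) (by decide +kernel) h31
  have f37 : ∀ p ∈ [37], Full p (normalizer (R37 : Set G)) := by
    intro p hp; rw [List.mem_singleton.1 hp]
    exact full_of_card hc (by decide +kernel) (by decide +kernel) h37
  have f43 : ∀ p ∈ [43], Full p (normalizer (R43 : Set G)) := by
    intro p hp; rw [List.mem_singleton.1 hp]
    exact full_of_card hc (by decide +kernel) (by decide +kernel) h43
  have m43 : (⟨43, 43, [(2, 1), (7, 1), (43, 1)]⟩ : LD) ∈ loc := by simp [loc]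
  have m37 : (⟨37, 37, [(2, 2), (3, 1), (37, 1)]⟩ : LD) ∈ loc := by simp [loc]
  have m29 : (⟨29, 29, [(2, 2), (7, 1), (29, 1)]⟩ : LD) ∈ loc := by simp [loc]
  have m23 : (⟨23, 23, [(2, 1), (11, 1), (23, 1)]⟩ : LD) ∈ loc := by simp [loc]
  exact sep_five (ne c23 (by decide +kernel)) (ne c29 (by decide +kernel)) (ne c31 (by decide +kernel))
    (ne c37 (by decide +kernel)) (ne c43 (by decide +kernel))
    (c.apart2 c23.symm.dvd c29.symm.dvd _ m29 _ _ 60 f23 f29 (by decide +kernel))
    (c.apart2 c23.symm.dvd c31.symm.dvd _ m23 _ _ 60 f23 f31 (by decide +kernel))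
    (c.apart2 c23.symm.dvd c37.symm.dvd _ m37 _ _ 60 f23 f37 (by decide +kernel))
    (c.apart2 c23.symm.dvd c43.symm.dvd _ m43 _ _ 60 f23 f43 (by decide +kernel))
    (c.apart2 c29.symm.dvd c31.symm.dvd _ m29 _ _ 60 f29 f31 (by decide +kernel))
    (c.apart2 c29.symm.dvd c37.symm.dvd _ m37 _ _ 60 f29 f37 (by decide +kernel))
    (c.apart2 c29.symm.dvd c43.symm.dvd _ m43 _ _ 60 f29 f43 (by decide +kernel))
    (c.apart2 c31.symm.dvd c37.symm.dvd _ m37 _ _ 60 f31 f37 (by decide +kernel))
    (c.apart2 c31.symm.dvd c43.symm.dvd _ m43 _ _ 60 f31 f43 (by decide +kernel))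
    (c.apart2 c37.symm.dvd c43.symm.dvd _ m43 _ _ 60 f37 f43 (by decide +kernel))

end Cfsg.Agent.H940.RowJ4
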