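import Mathlib
import Cfsg.Agent.H744.SepRgd
import Cfsg.Agent.KFacts.RgdFilt
import Cfsg.Agent.Mrg.Omega.ML.Ex.Typ.List

/-!
# Classes of maximal subgroups of the groups of Lie type (helper940)

`sep_typ_add` : a group `K` with a root group datum of rank `l` (`HasRGDT`) has at least `l + k` classes of maximal
subgroups if there are `k` pairwise apart proper subgroups which are apart from a Borel subgroup `N(S)`, `S ∈ Syl_p(K)`.
`apart_borel_of_coatom` : a maximal subgroup of index divisible by `p` is apart from `N(S)`.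
-/

set_option autoImplicit false

namespace Cfsg.Agent.H940.SepTyp

open Subgroup Cfsg.Agent.H940 Cfsg.Agent.H940.MaxCls Cfsg.Agent.Omega.ML.Ex.Typ Cfsg.Agent.H744.SepRgd
open CoxeterSystem Cfsg.Agent.ChevalleyStructure.CoxeterGeom Cfsg.Agent.Tits.Roots Cfsg.Agent.Tits.Core
  Cfsg.Agent.Tits.RootComb Cfsg.Agent.Tits.Exchange Cfsg.Agent.Nodes.Reps Cfsg.Agent.Nodes.BNOf
  Cfsg.Agent.Nodes.StabComb Cfsg.Agent.Nodes.Bruhat Cfsg.Agent.Nodes.OppDec Cfsg.Agent.Nodes.LeviDec
  Cfsg.Agent.KFacts.RgdAut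

universe u

/-- joining two families -/
theorem sep_append {G : Type u} [Group G] {n k : ℕ} {A : Fin n → Subgroup G} {D : Fin k → Subgroup G}
    (hA : ∀ i, A i ≠ ⊤) (hD : ∀ i, D i ≠ ⊤) (hAA : ∀ i j, i < j → Apart (A i) (A j))
    (hDD : ∀ i j, i < j → Apart (D i) (D j)) (hAD : ∀ i j, Apart (A i) (D j)) : Sep (n + k) G := by
  refine ⟨Fin.append A D, fun i => ?_, fun i j => ?_⟩
  · refine Fin.addCases (fun i => ?_) (fun i => ?_) i
    · rw [Fin.append_left]; exact hA i
    · rw [Fin.append_right]; exact hD i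
  · refine Fin.addCases (fun i => ?_) (fun i => ?_) i
    · refine Fin.addCases (fun j => ?_) (fun j => ?_) j
      · intro hij
        rw [Fin.append_left, Fin.append_left]
        refine hAA i j ?_
        rw [Fin.lt_def, Fin.val_castAdd, Fin.val_castAdd] at hij
        rw [Fin.lt_def]
        exact hij
      · intro _
        rw [Fin.append_left, Fin.append_right]
        exact hAD i j
    · refine Fin.addCases (fun j => ?_) (fun j => ?_) j
      · intro hij
        exfalso
        rw [Fin.lt_def, Fin.val_natAdd, Fin.val_castAdd] at hij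
        omega
      · intro hij
        rw [Fin.append_right, Fin.append_right]
        refine hDD i j ?_
        rw [Fin.lt_def, Fin.val_natAdd, Fin.val_natAdd] at hij
        rw [Fin.lt_def]
        omega

/-- a maximal subgroup of index divisible by `p` -/
theorem apart_borel_of_coatom {K : Type u} [Group K] [Finite K] {p : ℕ} [Fact p.Prime] (S : Sylow p K) {D : Subgroup K}
    (hD : IsCoatom D) (hp : p ∣ D.index) : Apart (normalizer ((S : Subgroup K) : Set K)) D := by
  refine (apart_of_coatom hD fun g => ?_).symm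
  by_contra hc
  push Not at hc
  have h1 : Nat.card (S : Subgroup K) ∣ Nat.card D := by
    rw [← card_map_conj g]
    exact card_dvd_of_le (map_conj_le fun x hx => hc x (le_normalizer hx))
  obtain ⟨m, hm⟩ := h1
  have h2 : (S : Subgroup K).index = m * D.index := by
    have h3 := card_mul_index D
    rw [hm, ← card_mul_index (S : Subgroup K), mul_assoc] at h3
    exact (Nat.eq_of_mul_eq_mul_left Nat.card_pos h3).symm
  exact S.not_dvd_index (by rw [h2]; exact Dvd.dvd.mul_left hp m)

theorem conj_normalizer {G : Type u} [Group G] {p : ℕ} (P : Sylow p G) {g x : G}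
    (hx : x ∈ normalizer (((g • P : Sylow p G) : Subgroup G) : Set G)) :
    g⁻¹ * x * g ∈ normalizer ((P : Subgroup G) : Set G) := by
  rw [mem_normalizer_iff] at hx ⊢
  intro y
  have h4 := hx (g * y * g⁻¹)
  have e1 : (g * y * g⁻¹ ∈ (((g • P : Sylow p G) : Subgroup G) : Set G)) ↔ y ∈ (P : Subgroup G) := by
    rw [SetLike.mem_coe, Sylow.coe_subgroup_smul, mem_pointwise_smul_iff_inv_smul_mem]
    have : (MulAut.conj g)⁻¹ • (g * y * g⁻¹) = y := by
      rw [← map_inv]
      show g⁻¹ * (g * y * g⁻¹) * g⁻¹⁻¹ = y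
      group
    rw [this]
  have e2 : (x * (g * y * g⁻¹) * x⁻¹ ∈ (((g • P : Sylow p G) : Subgroup G) : Set G)) ↔
      g⁻¹ * x * g * y * (g⁻¹ * x * g)⁻¹ ∈ (P : Subgroup G) := by
    rw [SetLike.mem_coe, Sylow.coe_subgroup_smul, mem_pointwise_smul_iff_inv_smul_mem]
    have : (MulAut.conj g)⁻¹ • (x * (g * y * g⁻¹) * x⁻¹) = g⁻¹ * x * g * y * (g⁻¹ * x * g)⁻¹ := by
      rw [← map_inv]
      show g⁻¹ * (x * (g * y * g⁻¹) * x⁻¹) * g⁻¹⁻¹ = _
      group
    rw [this]
  rw [SetLike.mem_coe] at e1 e2
  exact (e1.symm.trans h4).trans e2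

/-- **`l + k` classes** -/
theorem sep_typ_add {p l : ℕ} [Fact p.Prime] {M : CoxeterMatrix (Fin l)} {K : Type u} [Group K] [Finite K]
    (hK : HasRGDT p M K) (S : Sylow p K) {k : ℕ} (D : Fin k → Subgroup K) (hne : ∀ i, D i ≠ ⊤)
    (hpw : ∀ i j, i < j → Apart (D i) (D j)) (hS : ∀ i, Apart (normalizer ((S : Subgroup K) : Set K)) (D i)) :
    Sep (l + k) K := by
  obtain ⟨A, h, T, n, X, hW, R, hX⟩ := hK
  have hG := Cfsg.Agent.KFacts.RgdFilt.GG_eq_top (T := T) hX
  -- the Borel subgroup contains the normalizer of a Sylow subgroup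
  set U : Subgroup K := RGD.Sup X (RGD.Pos M.toCoxeterSystem h) with hU
  have hpU : IsPGroup p ↥U := R.isPGroup_Upos
  have hndvd : ¬ p ∣ U.index := by
    have := KFacts.RgdSyl.not_dvd_relIndex R
    rwa [hG, Subgroup.relIndex_top_right] at this
  obtain ⟨P, hP⟩ : ∃ P : Sylow p K, (P : Subgroup K) = U := ⟨hpU.toSylow hndvd, rfl⟩
  have hN : normalizer ((P : Subgroup K) : Set K) ≤ RGD.B M.toCoxeterSystem h T X := by
    intro g hg
    refine mem_of_conj_le R hG le_rfl fun x hx => ?_
    refine RGD.U_le_B ?_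
    rw [hP] at hg
    exact (mem_normalizer_iff.1 hg x).1 hx
  obtain ⟨g, hg⟩ := MulAction.exists_smul_eq K P S
  have hD : ∀ (i : Fin (Fintype.card (Fin l))) (j : Fin k), Apart (mp M.toCoxeterSystem h T X i) (D j) := by
    intro i j
    refine ((hS j).symm.conj_right g⁻¹ fun x hx => ?_).symm
    rw [inv_inv]
    refine B_le_PJ (hN ?_)
    rw [← hg] at hx
    exact conj_normalizer P hx
  have h1 := sep_append (mp_ne_top R hG) hne (fun i j hij => apart_mp R hG hij.ne) hpw hD
  rwa [Fintype.card_fin] at h1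

/-- two not conjugate maximal subgroups -/
theorem apart_of_not_conj {G : Type u} [Group G] [Finite G] {A B : Subgroup G} (hA : IsCoatom A) (hB : IsCoatom B)
    (h : ∀ g : G, Subgroup.map (MulAut.conj g).toMonoidHom A ≠ B) : Apart A B := by
  refine apart_of_coatom hA fun g => ?_
  by_contra hc
  push Not at hc
  have h1 : Subgroup.map (MulAut.conj g).toMonoidHom B ≤ A := map_conj_le hc
  have h2 : IsCoatom (Subgroup.map (MulAut.conj g).toMonoidHom B) :=
    (OrderIso.isCoatom_iff (MulAut.conj g).mapSubgroup B).2 hB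
  have h3 : Subgroup.map (MulAut.conj g).toMonoidHom B = A := by
    rcases eq_or_lt_of_le h1 with h3 | h3
    · exact h3
    · exact absurd (h2.2 A h3) hA.1
  apply h g⁻¹
  ext x
  rw [mem_map_conj, inv_inv, ← h3, mem_map_conj]
  have : g⁻¹ * (g * x * g⁻¹) * g = x := by group
  rw [this]

/-- rank `l` and `k` not conjugate maximal subgroups of index divisible by `p` -/
theorem sep_typ_coatoms {p l : ℕ} [hp : Fact p.Prime] {M : CoxeterMatrix (Fin l)} {K : Type u} [Group K] [Finite K]
    (hK : HasRGDT p M K) {k : ℕ} (D : Fin k → Subgroup K) (hco : ∀ i, IsCoatom (D i))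
    (hnc : ∀ i j, i < j → ∀ g : K, Subgroup.map (MulAut.conj g).toMonoidHom (D i) ≠ D j)
    (hi : ∀ i, p ∣ (D i).index) : Sep (l + k) K := by
  obtain ⟨S⟩ : Nonempty (Sylow p K) := inferInstance
  exact sep_typ_add hK S D (fun i => (hco i).1) (fun i j hij => apart_of_not_conj (hco i) (hco j) (hnc i j hij))
    fun i => apart_borel_of_coatom S (hco i) (hi i)

/-- rank `l`, `k` not conjugate maximal subgroups of index divisible by `p`, and one more subgroup `E` which is in no
conjugate of them and in no proper subgroup containing a Borel subgroup -/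
theorem sep_typ_coatoms_succ {p l : ℕ} [hp : Fact p.Prime] {M : CoxeterMatrix (Fin l)} {K : Type u} [Group K] [Finite K]
    (hK : HasRGDT p M K) (S : Sylow p K) {k : ℕ} (D : Fin k → Subgroup K) (hco : ∀ i, IsCoatom (D i))
    (hnc : ∀ i j, i < j → ∀ g : K, Subgroup.map (MulAut.conj g).toMonoidHom (D i) ≠ D j)
    (hi : ∀ i, p ∣ (D i).index) {E : Subgroup K} (hE : E ≠ ⊤)
    (hED : ∀ i, ∀ g : K, ∃ x ∈ E, g * x * g⁻¹ ∉ D i) (hES : Apart (normalizer ((S : Subgroup K) : Set K)) E) :
    MaxCls.Sep (l + (k + 1)) K := by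
  refine sep_typ_add hK S (Fin.snoc (α := fun _ => Subgroup K) D E) (fun i => ?_) (fun i j hij => ?_) fun i => ?_
  · refine Fin.lastCases ?_ (fun i => ?_) i
    · rw [Fin.snoc_last]; exact hE
    · rw [Fin.snoc_castSucc]; exact (hco i).1
  · revert hij
    refine Fin.lastCases ?_ (fun j => ?_) j
    · intro hij
      refine Fin.lastCases (fun hij => absurd hij (lt_irrefl _)) (fun i _ => ?_) i hij
      rw [Fin.snoc_castSucc, Fin.snoc_last]
      exact apart_of_coatom (hco i) (hED i)
    · intro hij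
      refine Fin.lastCases (fun hij => ?_) (fun i hij => ?_) i hij
      · exact absurd (hij.trans (Fin.castSucc_lt_last j)) (lt_irrefl _)
      · rw [Fin.snoc_castSucc, Fin.snoc_castSucc]
        exact apart_of_not_conj (hco i) (hco j) (hnc i j (by simpa using hij))
  · refine Fin.lastCases ?_ (fun i => ?_) i
    · rw [Fin.snoc_last]; exact hES
    · rw [Fin.snoc_castSucc]; exact apart_borel_of_coatom S (hco i) (hi i)

end Cfsg.Agent.H940.SepTyp
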