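import Cfsg.Agent.S0014
import Mathlib

/-!
# Generating tuples of a finite `p`-group and its automorphism group (helper940)

`card_dvd_of_free` : a group acting freely on a finite type has order dividing its cardinality.
`card_generating` : the number of generating `r`-tuples of a `p`-group with Frattini quotient of
order `p ^ r`.
-/

set_option autoImplicit false

namespace Cfsg.Agent.H940

/-- A group acting freely has order dividing the number of points. -/
theorem card_dvd_of_free {A X : Type*} [Group A] [MulAction A X]
    (h : ∀ (a : A) (x : X), a • x = x → a = 1) : Nat.card A ∣ Nat.card X := by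
  have hst : ∀ x : X, MulAction.stabilizer A x = ⊥ := by
    intro x
    rw [eq_bot_iff]
    intro a ha
    exact Subgroup.mem_bot.2 (h a x ha)
  rw [Nat.card_congr (MulAction.selfEquivOrbitsQuotientProd hst), Nat.card_prod]
  exact dvd_mul_left _ _

variable {P : Type*} [Group P] [Finite P] {p n r : ℕ} [hp : Fact p.Prime]

theorem frattini_card (hP : Nat.card P = p ^ n) (hr : (frattini P).index = p ^ r) :
    Nat.card (frattini P) = p ^ (n - r) := by
  have h := (frattini P).card_mul_index
  rw [hP, hr] at h
  have hrn : r ≤ n := by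
    have : p ^ r ∣ p ^ n := ⟨_, by rw [← h, mul_comm]⟩
    exact (Nat.pow_dvd_pow_iff_le_right hp.out.one_lt).1 this
  have h2 : p ^ n = p ^ (n - r) * p ^ r := by rw [← pow_add, Nat.sub_add_cancel hrn]
  rw [h2] at h
  exact Nat.eq_of_mul_eq_mul_right (pow_pos hp.out.pos r) h

/-- The automorphism group acts on the generating tuples. -/
@[instance_reducible]
def genAct (P : Type*) [Group P] (r : ℕ) :
    MulAction (MulAut P) {y : Fin r → P // Subgroup.closure (Set.range y) = ⊤} where
  smul a y := ⟨fun i => a (y.1 i), by
    have h1 : Set.range (fun i => a (y.1 i)) = a.toMonoidHom '' (Set.range y.1) := by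
      rw [← Set.range_comp]; rfl
    rw [h1, ← MonoidHom.map_closure, y.2]
    exact Subgroup.map_top_of_surjective _ a.surjective⟩
  one_smul y := rfl
  mul_smul a b y := rfl

theorem eq_one_of_fix {y : Fin r → P} (hy : Subgroup.closure (Set.range y) = ⊤) (a : MulAut P)
    (h : ∀ i, a (y i) = y i) : a = 1 := by
  have h1 : a.toMonoidHom = MonoidHom.id P := by
    apply MonoidHom.eq_of_eqOn_top
    rw [← hy]
    apply MonoidHom.eqOn_closure
    rintro _ ⟨i, rfl⟩
    exact h i
  ext x
  exact DFunLike.congr_fun h1 x

theorem card_gen_add {W : Type*} [AddCommGroup W] [Module (ZMod p) W] [Finite W]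
    (hcard : Nat.card W = p ^ r) :
    Nat.card {v : Fin r → W // AddSubgroup.closure (Set.range v) = ⊤} =
      ∏ i : Fin r, (p ^ r - p ^ (i : ℕ)) := by
  have hrank : Module.finrank (ZMod p) W = r := by
    have := Fintype.ofFinite W
    have h1 := Module.card_eq_pow_finrank (K := ZMod p) (V := W)
    rw [ZMod.card, ← Nat.card_eq_fintype_card, hcard] at h1
    exact (Nat.pow_right_injective hp.out.two_le h1).symm
  have h3 := card_linearIndependent (K := ZMod p) (V := W) (k := r) (by rw [hrank])
  rw [hrank, ZMod.card] at h3
  rw [← h3]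
  have hspan : ∀ S : Set W, AddSubgroup.closure S = ⊤ ↔
      Submodule.span (ZMod p) S = ⊤ := by
    intro S
    constructor
    · intro h
      rw [eq_top_iff]
      intro v _
      have hv : v ∈ AddSubgroup.closure S := by
        rw [h]; trivial
      induction hv using AddSubgroup.closure_induction with
      | mem x hx => exact Submodule.subset_span hx
      | zero => exact Submodule.zero_mem _
      | add x y _ _ hx hy => exact Submodule.add_mem _ (hx trivial) (hy trivial)
      | neg x _ hx => exact Submodule.neg_mem _ (hx trivial)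
    · intro h
      rw [eq_top_iff]
      intro v _
      have hv : v ∈ Submodule.span (ZMod p) S := by rw [h]; trivial
      induction hv using Submodule.span_induction with
      | mem x hx => exact AddSubgroup.subset_closure hx
      | zero => exact zero_mem _
      | add x y _ _ hx hy => exact add_mem (hx trivial) (hy trivial)
      | smul a x _ hx => exact ZMod.smul_mem (hx trivial) _
  refine Nat.card_congr (Equiv.subtypeEquivRight ?_)
  intro v
  rw [hspan]
  constructor
  · intro h
    exact linearIndependent_of_top_le_span_of_card_eq_finrank h.ge (by rw [hrank]; simp)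
  · intro h
    exact h.span_eq_top_of_card_eq_finrank' (by rw [hrank]; simp)

/-- The number of generating `r`-tuples of an elementary abelian group of order `p ^ r`. -/
theorem card_gen_elem {V : Type*} [CommGroup V] [Finite V] (hexp : ∀ v : V, v ^ p = 1)
    (hcard : Nat.card V = p ^ r) :
    Nat.card {v : Fin r → V // Subgroup.closure (Set.range v) = ⊤} =
      ∏ i : Fin r, (p ^ r - p ^ (i : ℕ)) := by
  have hexp' : ∀ v : Additive V, p • v = 0 := fun v => hexp v.toMul
  letI : Module (ZMod p) (Additive V) := AddCommGroup.zmodModule hexp'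
  have : Finite (Additive V) := inferInstanceAs (Finite V)
  rw [← card_gen_add (p := p) (r := r) (W := Additive V) hcard]
  refine Nat.card_congr ((Equiv.arrowCongr (Equiv.refl (Fin r)) Additive.ofMul).subtypeEquiv ?_)
  intro v
  have h4 : Set.range ((Equiv.arrowCongr (Equiv.refl (Fin r)) (Additive.ofMul (α := V))) v) =
      Additive.ofMul '' (Set.range v) := by
    rw [← Set.range_comp]; rfl
  rw [Cfsg.Agent.S0014.closure_ofMul, ← h4]

/-- The Frattini quotient of a `p`-group is abelian. -/
theorem frattini_quot_comm (hP : IsPGroup p P) (a b : P ⧸ frattini P) : a * b = b * a := by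
  obtain ⟨x, rfl⟩ := QuotientGroup.mk'_surjective (frattini P) a
  obtain ⟨y, rfl⟩ := QuotientGroup.mk'_surjective (frattini P) b
  have h := Cfsg.Agent.S0014.commutator_mem_frattini hP x y
  have h2 : (QuotientGroup.mk' (frattini P)) (x * y * x⁻¹ * y⁻¹) = 1 :=
    (QuotientGroup.eq_one_iff _).2 h
  rw [map_mul, map_mul, map_mul, map_inv, map_inv] at h2
  rw [mul_inv_eq_one, mul_inv_eq_iff_eq_mul] at h2
  exact h2

theorem frattini_quot_pow (hP : IsPGroup p P) (a : P ⧸ frattini P) : a ^ p = 1 := by
  obtain ⟨x, rfl⟩ := QuotientGroup.mk'_surjective (frattini P) a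
  rw [← map_pow]
  exact (QuotientGroup.eq_one_iff _).2 (Cfsg.Agent.S0014.pow_mem_frattini hP x)

/-- The number of generating `r`-tuples of a `p`-group with `r` generators. -/
theorem card_generating (hP : Nat.card P = p ^ n) (hr : (frattini P).index = p ^ r) :
    Nat.card {y : Fin r → P // Subgroup.closure (Set.range y) = ⊤} =
      p ^ (r * (n - r)) * ∏ i ∈ Finset.range r, (p ^ r - p ^ i) := by
  have hPg : IsPGroup p P := IsPGroup.of_card hP
  letI : CommGroup (P ⧸ frattini P) :=
    { (inferInstance : Group (P ⧸ frattini P)) with mul_comm := frattini_quot_comm hPg }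
  have hc : Nat.card (P ⧸ frattini P) = p ^ r := hr
  have h1 := card_gen_elem (p := p) (r := r) (V := P ⧸ frattini P)
    (frattini_quot_pow hPg) hc
  let E : P ≃ (P ⧸ frattini P) × frattini P := Subgroup.groupEquivQuotientProdSubgroup
  have hE : ∀ x, (E x).1 = (x : P ⧸ frattini P) := fun x => rfl
  let E2 : (Fin r → P) ≃ (Fin r → P ⧸ frattini P) × (Fin r → frattini P) :=
    (Equiv.arrowCongr (Equiv.refl _) E).trans (Equiv.arrowProdEquivProdArrow _ _ _)
  have hE2 : ∀ y : Fin r → P, (E2 y).1 = fun i => (y i : P ⧸ frattini P) := by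
    intro y
    funext i
    exact hE (y i)
  let E3 : {y : Fin r → P // Subgroup.closure (Set.range y) = ⊤} ≃
      {w : (Fin r → P ⧸ frattini P) × (Fin r → frattini P) //
        Subgroup.closure (Set.range w.1) = ⊤} :=
    E2.subtypeEquiv (by
      intro y
      rw [hE2, Cfsg.Agent.S0014.closure_eq_top_iff, ← Set.range_comp]
      rfl)
  let E4 : {w : (Fin r → P ⧸ frattini P) × (Fin r → frattini P) //
        Subgroup.closure (Set.range w.1) = ⊤} ≃
      {v : Fin r → P ⧸ frattini P // Subgroup.closure (Set.range v) = ⊤} ×
        (Fin r → frattini P) :=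
    { toFun := fun w => (⟨w.1.1, w.2⟩, w.1.2)
      invFun := fun w => ⟨(w.1.1, w.2), w.1.2⟩
      left_inv := fun w => rfl
      right_inv := fun w => rfl }
  rw [Nat.card_congr (E3.trans E4), Nat.card_prod, h1, Nat.card_fun, frattini_card hP hr]
  rw [Nat.card_eq_fintype_card, Fintype.card_fin, ← pow_mul, mul_comm (n - r) r, mul_comm]
  congr 1
  exact (Finset.prod_range (fun i => p ^ r - p ^ i)).symm

/-- The order of the automorphism group. -/
theorem card_mulAut_dvd (hP : Nat.card P = p ^ n) (hr : (frattini P).index = p ^ r) :
    Nat.card (MulAut P) ∣ p ^ (r * (n - r)) * ∏ i ∈ Finset.range r, (p ^ r - p ^ i) := by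
  rw [← card_generating hP hr]
  letI := genAct P r
  refine card_dvd_of_free (A := MulAut P) ?_
  intro a y h
  refine eq_one_of_fix y.2 a ?_
  intro i
  have := congrArg (fun z => z.1 i) h
  exact this

/-- A group of automorphisms acting trivially on the Frattini quotient. -/
theorem card_trivial_on_frattini_dvd (hP : Nat.card P = p ^ n) (hr : (frattini P).index = p ^ r)
    (A : Subgroup (MulAut P)) (hA : ∀ α ∈ A, ∀ x : P, α x * x⁻¹ ∈ frattini P) :
    Nat.card A ∣ p ^ (r * (n - r)) := by
  -- a generating tuple
  have hpos : Nat.card {y : Fin r → P // Subgroup.closure (Set.range y) = ⊤} ≠ 0 := by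
    rw [card_generating hP hr]
    refine mul_ne_zero (pow_ne_zero _ hp.out.ne_zero) ?_
    rw [Finset.prod_ne_zero_iff]
    intro i hi
    have := Nat.pow_lt_pow_right hp.out.one_lt (Finset.mem_range.1 hi)
    omega
  have hne : Nonempty {y : Fin r → P // Subgroup.closure (Set.range y) = ⊤} := by
    by_contra h
    rw [not_nonempty_iff] at h
    exact hpos Nat.card_of_isEmpty
  obtain ⟨x, hx⟩ := hne
  let X : Type _ := {y : Fin r → P // ∀ i, y i * (x i)⁻¹ ∈ frattini P}
  have hcard : Nat.card X = p ^ (r * (n - r)) := by
    let E : X ≃ (Fin r → frattini P) :=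
      { toFun := fun y i => ⟨y.1 i * (x i)⁻¹, y.2 i⟩
        invFun := fun z => ⟨fun i => (z i : P) * x i, fun i => by simp⟩
        left_inv := fun y => by
          apply Subtype.ext
          funext i
          simp
        right_inv := fun z => by
          funext i
          apply Subtype.ext
          simp }
    rw [Nat.card_congr E, Nat.card_fun, frattini_card hP hr, Nat.card_eq_fintype_card,
      Fintype.card_fin, ← pow_mul, mul_comm]
  rw [← hcard]
  letI : MulAction A X :=
    { smul := fun a y => ⟨fun i => (a : MulAut P) (y.1 i), fun i => by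
        have h1 := hA a a.2 (y.1 i)
        have h2 := (frattini P).mul_mem h1 (y.2 i)
        simpa [mul_assoc] using h2⟩
      one_smul := fun y => rfl
      mul_smul := fun a b y => rfl }
  refine card_dvd_of_free (A := A) ?_
  intro a y h
  apply Subtype.ext
  refine eq_one_of_fix (y := y.1) ?_ (a : MulAut P) ?_
  · rw [Cfsg.Agent.S0014.closure_eq_top_iff]
    have h1 := (Cfsg.Agent.S0014.closure_eq_top_iff (Set.range x)).1 hx
    rw [← h1]
    congr 1
    rw [← Set.range_comp, ← Set.range_comp]
    congr 1
    funext i
    have h2 := y.2 i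
    show (QuotientGroup.mk' (frattini P)) (y.1 i) = (QuotientGroup.mk' (frattini P)) (x i)
    rw [← mul_inv_eq_one, ← map_inv, ← map_mul]
    exact (QuotientGroup.eq_one_iff _).2 h2
  · intro i
    have := congrArg (fun z => z.1 i) h
    exact this

end Cfsg.Agent.H940
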