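import Mathlib

/-!
# Small general lemmas (helper940)
-/

set_option autoImplicit false

namespace Cfsg.Agent.H940

variable {G : Type*} [Group G]

theorem exists_mul_of_mem_sup {A B : Subgroup G} (h : A ≤ Subgroup.normalizer (B : Set G)) {x : G}
    (hx : x ∈ A ⊔ B) : ∃ a ∈ A, ∃ b ∈ B, a * b = x := by
  have h1 : x ∈ ((A ⊔ B : Subgroup G) : Set G) := hx
  rw [Subgroup.coe_mul_of_left_le_normalizer_right A B h] at h1
  obtain ⟨a, ha, b, hb, hab⟩ := Set.mem_mul.1 h1
  exact ⟨a, ha, b, hb, hab⟩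

theorem mem_normalizer_commutator {H K : Subgroup G} {g : G}
    (h1 : g ∈ Subgroup.normalizer (H : Set G)) (h2 : g ∈ Subgroup.normalizer (K : Set G)) :
    g ∈ Subgroup.normalizer ((⁅H, K⁆ : Subgroup G) : Set G) := by
  rw [Subgroup.mem_normalizer_iff_map_conj_eq] at h1 h2 ⊢
  rw [Subgroup.map_commutator, h1, h2]

theorem mem_normalizer_sup {H K : Subgroup G} {g : G}
    (h1 : g ∈ Subgroup.normalizer (H : Set G)) (h2 : g ∈ Subgroup.normalizer (K : Set G)) :
    g ∈ Subgroup.normalizer ((H ⊔ K : Subgroup G) : Set G) :=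
  Subgroup.normalizer_inf_normalizer_le_normalizer_sup H K ⟨h1, h2⟩

theorem mem_normalizer_inf {H K : Subgroup G} {g : G}
    (h1 : g ∈ Subgroup.normalizer (H : Set G)) (h2 : g ∈ Subgroup.normalizer (K : Set G)) :
    g ∈ Subgroup.normalizer ((H ⊓ K : Subgroup G) : Set G) := by
  rw [Subgroup.mem_normalizer_iff] at h1 h2 ⊢
  intro x
  show x ∈ H ⊓ K ↔ g * x * g⁻¹ ∈ H ⊓ K
  rw [Subgroup.mem_inf, Subgroup.mem_inf]
  exact and_congr (h1 x) (h2 x)

/-- an element centralizing a subgroup normalizes it -/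
theorem mem_normalizer_of_commute {K : Subgroup G} {g : G} (h : ∀ k ∈ K, g * k = k * g) :
    g ∈ Subgroup.normalizer (K : Set G) := by
  have : g ∈ Subgroup.centralizer (K : Set G) := by
    rw [Subgroup.mem_centralizer_iff]
    intro k hk
    exact (h k hk).symm
  exact Set.mem_of_subset_of_mem (Subgroup.centralizer_le_normalizer _) this

/-- an element normalizing `K` normalizes its centralizer -/
theorem mem_normalizer_centralizer {K : Subgroup G} {g : G}
    (h : g ∈ Subgroup.normalizer (K : Set G)) :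
    g ∈ Subgroup.normalizer ((Subgroup.centralizer (K : Set G) : Subgroup G) : Set G) := by
  rw [Subgroup.mem_normalizer_iff] at h ⊢
  intro x
  show x ∈ Subgroup.centralizer (K : Set G) ↔ g * x * g⁻¹ ∈ Subgroup.centralizer (K : Set G)
  rw [Subgroup.mem_centralizer_iff, Subgroup.mem_centralizer_iff]
  constructor
  · intro hx k hk
    have h1 : g⁻¹ * k * g ∈ K := by
      rw [SetLike.mem_coe] at hk
      rw [show k = g * (g⁻¹ * k * g) * g⁻¹ by group] at hk
      exact (h _).2 hk
    have h2 := hx _ h1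
    calc k * (g * x * g⁻¹) = g * ((g⁻¹ * k * g) * x) * g⁻¹ := by group
      _ = g * (x * (g⁻¹ * k * g)) * g⁻¹ := by rw [h2]
      _ = g * x * g⁻¹ * k := by group
  · intro hx k hk
    have h2 := hx _ ((h k).1 hk)
    calc k * x = g⁻¹ * (g * k * g⁻¹ * (g * x * g⁻¹)) * g := by group
      _ = g⁻¹ * (g * x * g⁻¹ * (g * k * g⁻¹)) * g := by rw [h2]
      _ = x * k := by group

/-- `⁅H, K⁆ ≤ L` if all commutators of elements are in `L`. -/
theorem commutator_lt [Finite G] {p : ℕ} [Fact p.Prime] (X Q : Subgroup G)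
    (hQ : IsPGroup p Q) (hXQ : X ≤ Q) (hQX : Q ≤ Subgroup.normalizer (X : Set G)) (hne : X ≠ ⊥) :
    ⁅X, Q⁆ < X := by
  have hle : ⁅X, Q⁆ ≤ X := Subgroup.le_normalizer_iff_commutator_le_left.1 hQX
  refine lt_of_le_of_ne hle fun heq => hne ?_
  have hnil : Group.IsNilpotent Q := hQ.isNilpotent
  obtain ⟨n, hn⟩ := (Subgroup.isNilpotent_iff_lowerCentralSeries Q).1 hnil
  rw [eq_bot_iff, ← hn]
  have h : ∀ k : ℕ, X ≤ Q.lowerCentralSeries k := by
    intro k
    induction k with
    | zero => exact hXQ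
    | succ k ih =>
      rw [Subgroup.lowerCentralSeries_succ]
      calc X = ⁅X, Q⁆ := heq.symm
        _ ≤ _ := Subgroup.commutator_mono ih le_rfl
  exact h n

end Cfsg.Agent.H940
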