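import Cfsg.Prelude.Def_Classification2
import Cfsg.Agent.H940.MaxCls

/-!
# S5906 from its rows (helper940)

The rows are the fields of `Rows`; every row is a task.
-/

set_option autoImplicit false

namespace Cfsg.Agent.H940.MaxCls

open Cfsg

/-- the fields `F` for which `PSL₂(F)` has exactly four classes of maximal subgroups -/
def Cond4 (F : Type) [Fintype F] : Prop :=
  Fintype.card F = 11 ∨
  (∃ p : ℕ, p.Prime ∧ 3 < p ∧ (p % 40 = 3 ∨ p % 40 = 37 ∨ p % 40 = 13 ∨ p % 40 = 27) ∧ Fintype.card F = p) ∨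
  (∃ p r m : ℕ, p.Prime ∧ r.Prime ∧ 1 ≤ m ∧ (p ≠ 2 → r ≠ 2) ∧ (p = 2 → 2 ≤ m) ∧ Fintype.card F = p ^ (r ^ m))

/-- the fields `F` for which `PSL₂(F)` has exactly three classes of maximal subgroups -/
def Cond3 (F : Type) [Fintype F] : Prop :=
  Fintype.card F = 5 ∨ Fintype.card F = 7 ∨ ∃ r : ℕ, r.Prime ∧ Fintype.card F = 2 ^ r

structure Rows : Prop where
  psl2_four : ∀ (F : Type) [Field F] [Fintype F], Cond4 F → Cls 4 (Matrix.ProjectiveSpecialLinearGroup (Fin 2) F)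
  psl2_three : ∀ (F : Type) [Field F] [Fintype F], Cond3 F → Cls 3 (Matrix.ProjectiveSpecialLinearGroup (Fin 2) F)
  psl2_five : ∀ (F : Type) [Field F] [Fintype F], 4 ≤ Fintype.card F → ¬ Cond4 F → ¬ Cond3 F →
    Sep 5 (Matrix.ProjectiveSpecialLinearGroup (Fin 2) F)
  psl3_two : ∀ (F : Type) [Field F] [Fintype F], Fintype.card F = 2 →
    Cls 3 (Matrix.ProjectiveSpecialLinearGroup (Fin 3) F)
  psl3_three : ∀ (F : Type) [Field F] [Fintype F], Fintype.card F = 3 →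
    Cls 4 (Matrix.ProjectiveSpecialLinearGroup (Fin 3) F)
  psl3_five : ∀ (F : Type) [Field F] [Fintype F], 4 ≤ Fintype.card F →
    Sep 5 (Matrix.ProjectiveSpecialLinearGroup (Fin 3) F)
  psl_five : ∀ (F : Type) [Field F] [Fintype F] (n : ℕ), 4 ≤ n →
    Sep 5 (Matrix.ProjectiveSpecialLinearGroup (Fin n) F)
  psu3_three : ∀ (F : Type) [Field F] [Fintype F], Fintype.card F = 9 → Cls 4 (PSU 3 F 3)
  psu3_two : ∀ (F : Type) [Field F] [Fintype F] (m : ℕ), 1 ≤ m → Fintype.card F = (2 ^ (2 ^ m)) ^ 2 →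
    Cls 4 (PSU 3 F (2 ^ (2 ^ m)))
  psu3_five : ∀ (F : Type) [Field F] [Fintype F] (q : ℕ), Fintype.card F = q ^ 2 → 4 ≤ q →
    (¬ ∃ m : ℕ, 1 ≤ m ∧ q = 2 ^ (2 ^ m)) → Sep 5 (PSU 3 F q)
  psu_five : ∀ (F : Type) [Field F] [Fintype F] (n q : ℕ), Fintype.card F = q ^ 2 → 4 ≤ n → Sep 5 (PSU n F q)
  psp_five : ∀ (F : Type) [Field F] [Fintype F] (m : ℕ), 2 ≤ m → (m = 2 → 3 ≤ Fintype.card F) → Sep 5 (PSp m F)
  sz_four : ∀ (F : Type) [Field F] [Fintype F] (m : ℕ), 1 ≤ m → Fintype.card F = 2 ^ (2 * m + 1) →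
    (2 * m + 1).Prime → Cls 4 (Lie.Sz F (2 ^ (m + 1)))
  sz_five : ∀ (F : Type) [Field F] [Fintype F] (m : ℕ), 1 ≤ m → Fintype.card F = 2 ^ (2 * m + 1) →
    ¬ (2 * m + 1).Prime → Sep 5 (Lie.Sz F (2 ^ (m + 1)))
  alt : ∀ n : ℕ, 6 ≤ n → Sep 5 (alternatingGroup (Fin n))
  alt5 : Cls 3 (alternatingGroup (Fin 5))
  oodd : ∀ (G : Type) [Group G], IsPOmegaOdd G → Sep 5 G
  oplus : ∀ (G : Type) [Group G], IsPOmegaPlus G → Sep 5 G
  ominus : ∀ (G : Type) [Group G], IsPOmegaMinus G → Sep 5 G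
  exc : ∀ (G : Type) [Group G], (Lie.IsoChevG2 G ∨ Lie.IsoF4 G ∨ Lie.IsoChevE6 G ∨ Lie.IsoE7 G ∨ Lie.IsoE8 G
    ∨ Lie.Iso2E6 G ∨ Lie.Iso3D4 G ∨ Lie.IsoRee G ∨ Lie.Iso2F4 G ∨ Lie.IsoTits G) → Sep 5 G
  spor : ∀ (G : Type) [Group G], IsSporadicGroup G → Sep 5 G

end Cfsg.Agent.H940.MaxCls
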