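import Mathlib
import Cfsg.Agent.H940.MCAssemble

/-!
# S5906 from its rows: the assembly (helper940)
-/

set_option autoImplicit false

namespace Cfsg.Agent.H940.MaxCls

open Cfsg

universe u v

theorem not_cls_of_prime {G : Type*} [Group G] [Finite G] (h : (Nat.card G).Prime) : ¬ Cls 4 G := by
  rintro ⟨M, h1, h2, -⟩
  have key : ∀ i, M i = ⊥ := by
    intro i
    have h3 := Subgroup.card_subgroup_dvd_card (M i)
    rcases (Nat.dvd_prime h).1 h3 with h4 | h4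
    · exact Subgroup.card_eq_one.1 h4
    · exact absurd ((Subgroup.card_eq_iff_eq_top _).1 h4) (h1 i).1
  have h5 : (0 : Fin 4) = 1 := by
    apply h2
    refine ⟨1, ?_⟩
    rw [key 0, key 1, Subgroup.map_bot]
  exact absurd h5 (by decide)

theorem not_cls_of_sep {G : Type*} [Group G] [Finite G] (h : Sep 5 G) : ¬ Cls 4 G := fun hc =>
  absurd (h.le_of_cls hc) (by decide)

theorem not_cls_of_three {G : Type*} [Group G] [Finite G] (h : Cls 3 G) : ¬ Cls 4 G := fun hc =>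
  absurd (h.eq hc) (by decide)

/-- the list of S5906 -/
def L4 (G : Type u) [Group G] : Prop :=
  (∃ (F : Type) (_ : Field F) (_ : Fintype F), Fintype.card F = 11 ∧ Nonempty (G ≃* Matrix.ProjectiveSpecialLinearGroup (Fin 2) F)) ∨
     (∃ (F : Type) (_ : Field F) (_ : Fintype F) (p : ℕ), p.Prime ∧ 3 < p ∧ (p % 40 = 3 ∨ p % 40 = 37 ∨ p % 40 = 13 ∨ p % 40 = 27) ∧
       Fintype.card F = p ∧ Nonempty (G ≃* Matrix.ProjectiveSpecialLinearGroup (Fin 2) F)) ∨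
     (∃ (F : Type) (_ : Field F) (_ : Fintype F) (p r m : ℕ), p.Prime ∧ r.Prime ∧ 1 ≤ m ∧ (p ≠ 2 → r ≠ 2) ∧ (p = 2 → 2 ≤ m) ∧
       Fintype.card F = p ^ (r ^ m) ∧ Nonempty (G ≃* Matrix.ProjectiveSpecialLinearGroup (Fin 2) F)) ∨
     (∃ (F : Type) (_ : Field F) (_ : Fintype F), Fintype.card F = 3 ∧ Nonempty (G ≃* Matrix.ProjectiveSpecialLinearGroup (Fin 3) F)) ∨
     (∃ (F : Type) (_ : Field F) (_ : Fintype F) (q : ℕ), (q = 3 ∨ ∃ m : ℕ, 1 ≤ m ∧ q = 2 ^ (2 ^ m)) ∧ Fintype.card F = q ^ 2 ∧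
       Nonempty (G ≃* Cfsg.PSU 3 F q)) ∨
     (∃ (F : Type) (_ : Field F) (_ : Fintype F) (r : ℕ), r.Prime ∧ Odd r ∧ Fintype.card F = 2 ^ r ∧
       Nonempty (G ≃* Cfsg.Lie.Sz F (2 ^ ((r + 1) / 2))))

theorem L4.of_mulEquiv {G : Type u} {H : Type v} [Group G] [Group H] (h : L4 G) (e : G ≃* H) : L4 H := by
  rcases h with ⟨F, i1, i2, h1, ⟨e1⟩⟩ | ⟨F, i1, i2, p, h1, h2, h3, h4, ⟨e1⟩⟩ | ⟨F, i1, i2, p, r, m, h1, h2, h3, h4, h5, h6, ⟨e1⟩⟩ |
    ⟨F, i1, i2, h1, ⟨e1⟩⟩ | ⟨F, i1, i2, q, h1, h2, ⟨e1⟩⟩ | ⟨F, i1, i2, r, h1, h2, h3, ⟨e1⟩⟩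
  · exact Or.inl ⟨F, i1, i2, h1, ⟨e.symm.trans e1⟩⟩
  · exact Or.inr (Or.inl ⟨F, i1, i2, p, h1, h2, h3, h4, ⟨e.symm.trans e1⟩⟩)
  · exact Or.inr (Or.inr (Or.inl ⟨F, i1, i2, p, r, m, h1, h2, h3, h4, h5, h6, ⟨e.symm.trans e1⟩⟩))
  · exact Or.inr (Or.inr (Or.inr (Or.inl ⟨F, i1, i2, h1, ⟨e.symm.trans e1⟩⟩)))
  · exact Or.inr (Or.inr (Or.inr (Or.inr (Or.inl ⟨F, i1, i2, q, h1, h2, ⟨e.symm.trans e1⟩⟩))))
  · exact Or.inr (Or.inr (Or.inr (Or.inr (Or.inr ⟨F, i1, i2, r, h1, h2, h3, ⟨e.symm.trans e1⟩⟩))))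

/-- the groups of the list have exactly four classes -/
theorem Rows.cls_of_L4 (R : Rows) {G : Type u} [Group G] (h : L4 G) : Cls 4 G := by
  rcases h with ⟨F, i1, i2, h1, ⟨e1⟩⟩ | ⟨F, i1, i2, p, h1, h2, h3, h4, ⟨e1⟩⟩ | ⟨F, i1, i2, p, r, m, h1, h2, h3, h4, h5, h6, ⟨e1⟩⟩ |
    ⟨F, i1, i2, h1, ⟨e1⟩⟩ | ⟨F, i1, i2, q, h1, h2, ⟨e1⟩⟩ | ⟨F, i1, i2, r, h1, h2, h3, ⟨e1⟩⟩
  · exact (R.psl2_four F (Or.inl h1)).of_mulEquiv e1.symm
  · exact (R.psl2_four F (Or.inr (Or.inl ⟨p, h1, h2, h3, h4⟩))).of_mulEquiv e1.symm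
  · exact (R.psl2_four F (Or.inr (Or.inr ⟨p, r, m, h1, h2, h3, h4, h5, h6⟩))).of_mulEquiv e1.symm
  · exact (R.psl3_three F h1).of_mulEquiv e1.symm
  · rcases h1 with rfl | ⟨m, hm, rfl⟩
    · exact (R.psu3_three F h2).of_mulEquiv e1.symm
    · exact (R.psu3_two F m hm h2).of_mulEquiv e1.symm
  · obtain ⟨m, rfl⟩ := h2
    have hm : 1 ≤ m := by
      have := h1.two_le
      omega
    have e2 : (2 * m + 1 + 1) / 2 = m + 1 := by omega
    rw [e2] at e1
    exact (R.sz_four F m hm h3 h1).of_mulEquiv e1.symm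

/-- a known simple group has three, four (and is in the list) or at least five classes -/
theorem Rows.L4_of_cls (R : Rows) {G : Type} [Group G] [Finite G] (hk : IsKnownSimple' G) (hc : Cls 4 G) : L4 G := by
  rcases hk with h | h | h | h | h | h | h | h | h | h
  · exact absurd hc (not_cls_of_prime h)
  · obtain ⟨n, hn, ⟨e⟩⟩ := h
    rcases Nat.lt_or_ge n 6 with h6 | h6
    · have : n = 5 := by omega
      subst this
      exact absurd hc (not_cls_of_three (R.alt5.of_mulEquiv e.symm))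
    · exact absurd hc (not_cls_of_sep ((R.alt n h6).of_mulEquiv e.symm))
  · obtain ⟨F, i1, i2, n, hn, hn2, ⟨e⟩⟩ := h
    rcases Nat.lt_or_ge n 3 with h3 | h3
    · have : n = 2 := by omega
      subst this
      by_cases h4 : Cond4 F
      · rcases h4 with h4 | ⟨p, h4⟩ | ⟨p, r, m, h4⟩
        · exact Or.inl ⟨F, i1, i2, h4, ⟨e⟩⟩
        · exact Or.inr (Or.inl ⟨F, i1, i2, p, h4.1, h4.2.1, h4.2.2.1, h4.2.2.2, ⟨e⟩⟩)
        · exact Or.inr (Or.inr (Or.inl ⟨F, i1, i2, p, r, m, h4.1, h4.2.1, h4.2.2.1, h4.2.2.2.1, h4.2.2.2.2.1,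
            h4.2.2.2.2.2, ⟨e⟩⟩))
      · by_cases h5 : Cond3 F
        · exact absurd hc (not_cls_of_three ((R.psl2_three F h5).of_mulEquiv e.symm))
        · exact absurd hc (not_cls_of_sep ((R.psl2_five F (hn2 rfl) h4 h5).of_mulEquiv e.symm))
    · rcases Nat.lt_or_ge n 4 with h4 | h4
      · have : n = 3 := by omega
        subst this
        rcases Nat.lt_or_ge (Fintype.card F) 4 with h5 | h5
        · have h6 : 1 < Fintype.card F := Fintype.one_lt_card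
          have h7 : Fintype.card F = 2 ∨ Fintype.card F = 3 := by omega
          rcases h7 with h7 | h7
          · exact absurd hc (not_cls_of_three ((R.psl3_two F h7).of_mulEquiv e.symm))
          · exact Or.inr (Or.inr (Or.inr (Or.inl ⟨F, i1, i2, h7, ⟨e⟩⟩)))
        · exact absurd hc (not_cls_of_sep ((R.psl3_five F h5).of_mulEquiv e.symm))
      · exact absurd hc (not_cls_of_sep ((R.psl_five F n h4).of_mulEquiv e.symm))
  · obtain ⟨F, i1, i2, m, hm, hm2, ⟨e⟩⟩ := h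
    exact absurd hc (not_cls_of_sep ((R.psp_five F m hm hm2).of_mulEquiv e.symm))
  · obtain ⟨F, i1, i2, n, q, hq, hn, hn2, ⟨e⟩⟩ := h
    rcases Nat.lt_or_ge n 4 with h4 | h4
    · have : n = 3 := by omega
      subst this
      have h6 : 1 < Fintype.card F := Fintype.one_lt_card
      have hq2 : 2 ≤ q := by
        by_contra hlt
        have h7 : q ≤ 1 := by omega
        have h8 : q ^ 2 ≤ 1 := by interval_cases q <;> norm_num
        omega
      have hq3 : q ≠ 2 := fun h => hn2 ⟨rfl, h⟩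
      by_cases h5 : q = 3 ∨ ∃ m : ℕ, 1 ≤ m ∧ q = 2 ^ (2 ^ m)
      · exact Or.inr (Or.inr (Or.inr (Or.inr (Or.inl ⟨F, i1, i2, q, h5, hq, ⟨e⟩⟩))))
      · rw [not_or] at h5
        exact absurd hc (not_cls_of_sep ((R.psu3_five F q hq (by omega) h5.2).of_mulEquiv e.symm))
    · exact absurd hc (not_cls_of_sep ((R.psu_five F n q hq h4).of_mulEquiv e.symm))
  · exact absurd hc (not_cls_of_sep (R.oodd G h))
  · exact absurd hc (not_cls_of_sep (R.oplus G h))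
  · exact absurd hc (not_cls_of_sep (R.ominus G h))
  · rcases h with h | h | h | h | h | h | h | h | h | h | h
    · exact absurd hc (not_cls_of_sep (R.exc G (Or.inl h)))
    · exact absurd hc (not_cls_of_sep (R.exc G (Or.inr (Or.inl h))))
    · exact absurd hc (not_cls_of_sep (R.exc G (Or.inr (Or.inr (Or.inl h)))))
    · exact absurd hc (not_cls_of_sep (R.exc G (Or.inr (Or.inr (Or.inr (Or.inl h))))))
    · exact absurd hc (not_cls_of_sep (R.exc G (Or.inr (Or.inr (Or.inr (Or.inr (Or.inl h)))))))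
    · exact absurd hc (not_cls_of_sep (R.exc G (Or.inr (Or.inr (Or.inr (Or.inr (Or.inr (Or.inl h))))))))
    · exact absurd hc (not_cls_of_sep (R.exc G (Or.inr (Or.inr (Or.inr (Or.inr (Or.inr (Or.inr (Or.inl h)))))))))
    · obtain ⟨F, i1, i2, m, hm, hF, ⟨e⟩⟩ := h
      by_cases hp : (2 * m + 1).Prime
      · refine Or.inr (Or.inr (Or.inr (Or.inr (Or.inr ⟨F, i1, i2, 2 * m + 1, hp, ⟨m, rfl⟩, hF, ⟨?_⟩⟩))))
        have e2 : (2 * m + 1 + 1) / 2 = m + 1 := by omega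
        rw [e2]
        exact e
      · exact absurd hc (not_cls_of_sep ((R.sz_five F m hm hF hp).of_mulEquiv e.symm))
    · exact absurd hc (not_cls_of_sep (R.exc G (Or.inr (Or.inr (Or.inr (Or.inr (Or.inr (Or.inr (Or.inr (Or.inl h))))))))))
    · exact absurd hc (not_cls_of_sep (R.exc G (Or.inr (Or.inr (Or.inr (Or.inr (Or.inr (Or.inr (Or.inr (Or.inr (Or.inl h)))))))))))
    · exact absurd hc (not_cls_of_sep (R.exc G (Or.inr (Or.inr (Or.inr (Or.inr (Or.inr (Or.inr (Or.inr (Or.inr (Or.inr h)))))))))))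
  · exact absurd hc (not_cls_of_sep (R.spor G h))

/-- **S5906 from its rows** -/
theorem Rows.main (R : Rows) (hk : ∀ (G : Type) [Group G] [Finite G] [IsSimpleGroup G], IsKnownSimple' G)
    {G : Type u} [Group G] [Finite G] [IsSimpleGroup G] : Cls 4 G ↔ L4 G := by
  constructor
  · intro hc
    let e : Shrink.{0} G ≃* G := Shrink.mulEquiv
    haveI : Finite (Shrink.{0} G) := Finite.of_equiv G e.symm.toEquiv
    haveI : IsSimpleGroup (Shrink.{0} G) := by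
      haveI : Nontrivial (Shrink.{0} G) := e.toEquiv.nontrivial
      exact e.isSimpleGroup
    exact (R.L4_of_cls (hk _) (hc.of_mulEquiv e.symm)).of_mulEquiv e
  · exact R.cls_of_L4

end Cfsg.Agent.H940.MaxCls
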