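import Cfsg.Agent.H940.MCAssemble
import Cfsg.Agent.H807.MaxPSL.Five
import Cfsg.Agent.H807.MaxPSL.Small
import Cfsg.Agent.H807.MaxPSL.Count
import Cfsg.Agent.H807.MaxPSL.Eleven
import Cfsg.Agent.H542.MaxEven

/-!
# The rows `PSL₂(q)` of S5906 (assembly, helper940)
-/

set_option autoImplicit false

namespace Cfsg.Agent.H940.MaxCls

open Cfsg

theorem row_psl2_four (F : Type) [Field F] [Fintype F] (h : Cond4 F) :
    Cls 4 (Matrix.ProjectiveSpecialLinearGroup (Fin 2) F) := by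
  rcases h with h | ⟨p, hp, h3, h40, hF⟩ | ⟨p, r, m, hp, hr, hm, h2, h2', hF⟩
  · exact H807.MaxPSL.odd_four_eleven h
  · exact H807.MaxPSL.odd_four_prime hp h3 h40 hF
  · by_cases hp2 : p = 2
    · subst hp2
      exact H542.MaxEven.even_four hr (h2' rfl) hF
    · exact H807.MaxPSL.odd_four_pow hp hp2 hr (h2 hp2) hm hF

theorem row_psl2_three (F : Type) [Field F] [Fintype F] (h : Cond3 F) :
    Cls 3 (Matrix.ProjectiveSpecialLinearGroup (Fin 2) F) := by
  rcases h with h | h | ⟨r, hr, hF⟩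
  · exact H807.MaxPSL.odd_three_five h
  · exact H807.MaxPSL.odd_three_seven h
  · exact H542.MaxEven.even_three hr hF

theorem row_psl2_five (F : Type) [Field F] [Fintype F] (h4 : 4 ≤ Fintype.card F) (hc4 : ¬ Cond4 F)
    (hc3 : ¬ Cond3 F) : Sep 5 (Matrix.ProjectiveSpecialLinearGroup (Fin 2) F) := by
  obtain ⟨p, hpF⟩ := CharP.exists F
  haveI := hpF
  obtain ⟨n, hp, hF⟩ := FiniteField.card F p
  have hn : 1 ≤ (n : ℕ) := n.pos
  by_cases hp2 : p = 2
  · subst hp2
    refine H542.MaxEven.even_five hF ?_ ?_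
    · by_contra hlt
      have h1 : (n : ℕ) = 1 := by omega
      rw [h1] at hF
      omega
    · rintro ⟨r, m, hr, hm, hrm⟩
      rcases Nat.lt_or_ge m 2 with h | h
      · have h1 : m = 1 := by omega
        subst h1
        exact hc3 (Or.inr (Or.inr ⟨r, hr, by rw [hF, hrm, pow_one]⟩))
      · exact hc4 (Or.inr (Or.inr ⟨2, r, m, hp, hr, hm, fun h' => absurd rfl h', fun _ => h, by rw [hF, hrm]⟩))
  · have h5 : Fintype.card F ≠ 5 := fun h => hc3 (Or.inl h)
    have h7 : Fintype.card F ≠ 7 := fun h => hc3 (Or.inr (Or.inl h))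
    have h11 : Fintype.card F ≠ 11 := fun h => hc4 (Or.inl h)
    have hodd : Odd (Fintype.card F) := by rw [hF]; exact (hp.odd_of_ne_two hp2).pow
    have h5' : 5 < Fintype.card F := by
      obtain ⟨k, hk⟩ := hodd
      omega
    refine H807.MaxPSL.odd_five hp hp2 hn hF (by rw [← hF]; exact h5') (by rw [← hF]; exact h7)
      (by rw [← hF]; exact h11) ?_ ?_
    · intro h1 h40
      rw [h1, pow_one] at hF
      exact hc4 (Or.inr (Or.inl ⟨p, hp, by omega, h40, hF⟩))
    · rintro ⟨r, m, hr, hr2, hm, hrm⟩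
      exact hc4 (Or.inr (Or.inr ⟨p, r, m, hp, hr, hm, fun _ => hr2, fun h' => absurd h' hp2, by rw [hF, hrm]⟩))

end Cfsg.Agent.H940.MaxCls
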