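import Cfsg.Agent.H940.MCFinal
import Cfsg.Agent.H940.RowsA
import Cfsg.Agent.H744.SepExc
import Cfsg.Agent.H761.AltSepSmall
import Cfsg.Agent.H761.SzCls
import Cfsg.Agent.H963.ReeFive
import Cfsg.Agent.H896.L3Glue
import Cfsg.Agent.S5774
import Cfsg.Agent.S5775
import Cfsg.Agent.S5776
import Cfsg.Agent.H950.MCGeom
import Cfsg.Agent.H950.SuFour
import Cfsg.Agent.H234.SepPSU2
import Cfsg.Agent.H933.TitsSep
import Cfsg.Agent.H148.Oct.SepG2
import Cfsg.Agent.H136.TwF.Five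
import Cfsg.Agent.H812.D4.Row
import Cfsg.Agent.H507.Mc.Psl
import Cfsg.Agent.H999.McPSpB
import Cfsg.Agent.H889.SepSp.FourEven
import Cfsg.Agent.H16.PSp4.Odd
import Cfsg.Agent.H79.OmNs.Rows
import Cfsg.Agent.H79.OmNs.MinusEight
import Cfsg.Agent.H865.Sep.MEleven
import Cfsg.Agent.H865.Sep.MTwelve
import Cfsg.Agent.H867.Max.MTwentyTwo
import Cfsg.Agent.H867.Max.MTwentyThree
import Cfsg.Agent.H867.Max.MTwentyFour
import Cfsg.Agent.H305.SepJ1
import Cfsg.Agent.H305.SepJ2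
import Cfsg.Agent.H305.SepJ3
import Cfsg.Agent.H940.RowJ4
import Cfsg.Agent.H322.Eng.RowCo1
import Cfsg.Agent.H89.SepCo2
import Cfsg.Agent.H970.Sep.RowCo3
import Cfsg.Agent.H38.RowMcL
import Cfsg.Agent.H38.RowHS
import Cfsg.Agent.H212.SuzFive.Row
import Cfsg.Agent.H70.RowHe
import Cfsg.Agent.H148.Ru.Row
import Cfsg.Agent.H493.Sep.RowON
import Cfsg.Agent.H493.Sep.RowLy
import Cfsg.Agent.H303.MaxTh
import Cfsg.Agent.H89.SepFi22
import Cfsg.Agent.H961.SepFi23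
import Cfsg.Agent.H256.Sep.RowFi24
import Cfsg.Agent.H973.SepHN.Row
import Cfsg.Agent.H835.Mon.Row

/-!
# The rows of S5906 (assembly, helper940), up to `B`
-/

set_option autoImplicit false

namespace Cfsg.Agent.H940.MaxCls

open Cfsg

theorem row_psp (F : Type) [Field F] [Fintype F] (m : ℕ) (hm : 2 ≤ m) (h : m = 2 → 3 ≤ Fintype.card F) :
    Sep 5 (PSp m F) := by
  rcases Nat.lt_or_ge 2 m with h3 | h2
  · exact H999.McPSp.psp_five (by omega)
  · obtain rfl : m = 2 := by omega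
    have hF := h rfl
    obtain ⟨p, hpF⟩ := CharP.exists F
    haveI := hpF
    obtain ⟨n, hp, hc⟩ := FiniteField.card F p
    by_cases hp2 : p = 2
    · subst hp2
      refine H889.SepSp.psp4_even (k := n) ?_ hc
      by_contra hlt
      have h1 : (n : ℕ) ≤ 1 := by omega
      have : 2 ^ (n : ℕ) ≤ 2 ^ 1 := Nat.pow_le_pow_right (by norm_num) h1
      omega
    · have hodd : Odd (Fintype.card F) := by rw [hc]; exact (hp.odd_of_ne_two hp2).pow
      rcases Nat.lt_or_ge (Fintype.card F) 5 with h5 | h5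
      · refine H16.PSp4.psp4_3 F ?_
        obtain ⟨k, hk⟩ := hodd
        omega
      · exact H16.PSp4.psp4_odd F hodd h5

theorem row_exc (G : Type) [Group G] (h : Lie.IsoChevG2 G ∨ Lie.IsoF4 G ∨ Lie.IsoChevE6 G ∨ Lie.IsoE7 G ∨ Lie.IsoE8 G
    ∨ Lie.Iso2E6 G ∨ Lie.Iso3D4 G ∨ Lie.IsoRee G ∨ Lie.Iso2F4 G ∨ Lie.IsoTits G) : Sep 5 G := by
  rcases h with h | h | h | h | h | h | h | h | h | h
  · exact H148.Oct.sep_isoChevG2 h
  · obtain ⟨F, i1, i2, ⟨e⟩⟩ := h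
    exact (H744.SepExc.f4 F).of_mulEquiv e.symm
  · obtain ⟨F, i1, i2, ⟨e⟩⟩ := h
    exact (H744.SepExc.e6 F).of_mulEquiv e.symm
  · obtain ⟨F, i1, i2, ⟨e⟩⟩ := h
    exact (H744.SepExc.e7 F).of_mulEquiv e.symm
  · obtain ⟨F, i1, i2, ⟨e⟩⟩ := h
    exact (H744.SepExc.e8 F).of_mulEquiv e.symm
  · obtain ⟨K, i1, i2, q, hq, hK, ⟨e⟩⟩ := h
    exact (H744.SepExc.te6 K q hq hK).of_mulEquiv e.symm
  · obtain ⟨K, i1, i2, q, hq, hK, ⟨e⟩⟩ := h
    exact (H812.D4.Row.d4 K q hq hK).of_mulEquiv e.symm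
  · obtain ⟨K, i1, i2, m, hm, hK, ⟨e⟩⟩ := h
    exact (H963.ReeFive.five K m hm hK).of_mulEquiv e.symm
  · have hfin : Finite G := by
      obtain ⟨K, i1, i2, m, hm, hK, ⟨e⟩⟩ := h
      exact Finite.of_equiv _ e.symm.toEquiv
    exact H136.TwF.sep_2F4 h
  · exact H933.TitsSep.tits h

theorem row_spor (B : Eng.Base) (hB : Sep 5 Spor.BabyMonster) (G : Type) [Group G]
    (h : IsSporadicGroup G) : Sep 5 G := by
  rcases h with h | h | h | h | h | h | h | h | h | h | h | h | h | h | h | h | h | h | h | h | h | h | h | h | h | h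
  · obtain ⟨e⟩ := h; exact (H865.Sep.M11.five B).of_mulEquiv e.symm
  · obtain ⟨e⟩ := h; exact (H865.Sep.M12.five B).of_mulEquiv e.symm
  · obtain ⟨e⟩ := h; exact H867.Max.MTwentyTwo.sep.of_mulEquiv e.symm
  · obtain ⟨e⟩ := h; exact H867.Max.MTwentyThree.sep.of_mulEquiv e.symm
  · obtain ⟨e⟩ := h; exact H867.Max.MTwentyFour.sep.of_mulEquiv e.symm
  · obtain ⟨e⟩ := h; exact (H305.SepJ1.five B).of_mulEquiv e.symm
  · obtain ⟨e⟩ := h; exact (H305.SepJ2.five B).of_mulEquiv e.symm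
  · exact H305.SepJ3.five_of B h
  · obtain ⟨e⟩ := h; exact (RowJ4.five B).of_mulEquiv e.symm
  · obtain ⟨e⟩ := h; exact (H322.RowCo1.five B).of_mulEquiv e.symm
  · obtain ⟨e⟩ := h; exact (H89.SepCo2.five B).of_mulEquiv e.symm
  · obtain ⟨e⟩ := h; exact (H970.Sep.RowCo3.five B).of_mulEquiv e.symm
  · obtain ⟨e⟩ := h; exact (H38.RowMcL.five B).of_mulEquiv e.symm
  · obtain ⟨e⟩ := h; exact (H38.RowHS.five B).of_mulEquiv e.symm
  · obtain ⟨e⟩ := h; exact (H212.SuzFive.five B).of_mulEquiv e.symm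
  · obtain ⟨e⟩ := h; exact (H70.RowHe.five B).of_mulEquiv e.symm
  · obtain ⟨e⟩ := h; exact (H148.Ru.five B).of_mulEquiv e.symm
  · obtain ⟨e⟩ := h; exact (H493.Sep.RowON.five B).of_mulEquiv e.symm
  · obtain ⟨e⟩ := h; exact (H493.Sep.RowLy.five B).of_mulEquiv e.symm
  · obtain ⟨e⟩ := h; exact (H89.SepFi22.five B).of_mulEquiv e.symm
  · obtain ⟨e⟩ := h; exact (H961.SepFi23.five B).of_mulEquiv e.symm
  · obtain ⟨e⟩ := h; exact (H256.Sep.RowFi24.five B).of_mulEquiv e.symm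
  · obtain ⟨e⟩ := h; exact (H973.SepHN.five B).of_mulEquiv e.symm
  · obtain ⟨e⟩ := h; exact (H303.MaxTh.five B).of_mulEquiv e.symm
  · obtain ⟨e⟩ := h; exact hB.of_mulEquiv e.symm
  · obtain ⟨e⟩ := h; exact (H835.Mon.Row.five B).of_mulEquiv e.symm

/-- all rows, up to `B` -/
theorem rows_of (B : Eng.Base) (hB : Sep 5 Spor.BabyMonster) : Rows where
  psl2_four := row_psl2_four
  psl2_three := row_psl2_three
  psl2_five := row_psl2_five
  psl3_two := fun F _ _ h => H807.MaxPSL.psl3_two F h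
  psl3_three := fun F _ _ h => H896.L3.psl3_three Cfsg.Agent.S5774.result (fun H hH => Cfsg.Agent.S5775.result H hH)
    (fun H hH hS => Cfsg.Agent.S5776.result H hH hS) h
  psl3_five := fun F _ _ h => H896.L3.psl3_five Cfsg.Agent.S5774.result h
  psl_five := fun F _ _ n hn => H507.Mc.psl_five F n hn
  psu3_three := fun F _ _ h => H950.MC.psu3_three h
  psu3_two := fun F _ _ m hm h => H950.MC.psu3_two m hm h
  psu3_five := fun F _ _ q h hq hn => H950.MC.psu3_five h hq hn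
  psu_five := fun F _ _ n q h hn => by
    rcases Nat.lt_or_ge 4 n with h5 | h4
    · exact H234.SepPSU.psu_five_ge5 h h5
    · obtain rfl : n = 4 := by omega
      exact H950.Su.psu_five_four h
  psp_five := row_psp
  sz_four := fun F _ _ m hm h hp => H761.SzCls.four F m hm h hp
  sz_five := fun F _ _ m hm h hp => H761.SzCls.five F m hm h hp
  alt := fun n hn => H761.AltSep.alt hn
  alt5 := H807.MaxPSL.alt5
  oodd := fun G _ h => H79.OmNs.oodd h
  oplus := fun G _ h => H79.OmNs.oplus h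
  ominus := fun G _ h => H79.OmNs.ominus h
  exc := row_exc
  spor := row_spor B hB

end Cfsg.Agent.H940.MaxCls
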